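import Mathlib
import Cfsg.Agent.H77.ClassNumber
import Cfsg.Agent.H30.ClassFit.Perm

/-!
# Counting lemmas for lower bounds on class numbers
-/

set_option autoImplicit false
set_option linter.unusedSectionVars false

namespace Cfsg.Agent.H88.ClassBound

open MulAction

variable {G : Type*} [Group G] [Finite G]

/-- An abelian subgroup of small index forces many classes. -/
theorem card_le_index_mul_kcard (A : Subgroup G) (hA : ∀ a ∈ A, ∀ b ∈ A, a * b = b * a) :
    Nat.card A ≤ A.index * Nat.card (ConjClasses G) := by
  classical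
  haveI := Fintype.ofFinite G
  have h : Nat.card A ≤ Nat.card (ConjClasses A) := by
    refine Nat.card_le_card_of_injective ConjClasses.mk fun a b h => ?_
    obtain ⟨c, hc⟩ := isConj_iff.1 (ConjClasses.mk_eq_mk_iff_isConj.1 h)
    rw [← hc]
    apply Subtype.ext
    push_cast
    rw [hA c c.2 a a.2, mul_inv_cancel_right]
  exact h.trans (H77.kcard_subgroup_le A)

/-- Classes inside a subgroup centralised by a normal subgroup, and classes outside. -/
theorem exists_classes (N C : Subgroup G) [C.Normal] (hNC : N ≤ C)
    (hcent : ∀ c ∈ C, ∀ n ∈ N, c * n = n * c) :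
    ∃ o, Nat.card N - 1 ≤ o * C.index ∧
      Nat.card (ConjClasses (G ⧸ C)) + o ≤ Nat.card (ConjClasses G) := by
  classical
  haveI := Fintype.ofFinite G
  haveI := Fintype.ofFinite (ConjClasses G)
  let S : Finset (ConjClasses G) :=
    ((Finset.univ : Finset G).filter fun n => n ∈ N ∧ n ≠ 1).image ConjClasses.mk
  let π : ConjClasses G → ConjClasses (G ⧸ C) := ConjClasses.map (QuotientGroup.mk' C)
  have hπ : Function.Surjective π := ConjClasses.map_surjective (QuotientGroup.mk'_surjective C)
  refine ⟨S.card, ?_, ?_⟩
  · have h1 : ((Finset.univ : Finset G).filter fun n => n ∈ N ∧ n ≠ 1).card ≤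
        S.card * C.index := by
      rw [mul_comm]
      refine Finset.card_le_mul_card_image _ _ fun c hc => ?_
      obtain ⟨m, hm, rfl⟩ := Finset.mem_image.1 hc
      simp only [Finset.mem_filter, Finset.mem_univ, true_and] at hm
      refine le_trans (Finset.card_le_card (t := (Finset.univ : Finset (G ⧸ C)).image
        fun q => q.out * m * q.out⁻¹) fun n hn => ?_) ?_
      · simp only [Finset.mem_filter, Finset.mem_univ, true_and] at hn
        obtain ⟨g, hg⟩ := isConj_iff.1 (ConjClasses.mk_eq_mk_iff_isConj.1 hn.2.symm)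
        rw [Finset.mem_image]
        refine ⟨(g : G ⧸ C), Finset.mem_univ _, ?_⟩
        obtain ⟨d, hd⟩ := QuotientGroup.mk_out_eq_mul C g
        rw [hd, ← hg]
        calc g * d * m * (g * d)⁻¹ = g * ((d : G) * m) * (d : G)⁻¹ * g⁻¹ := by group
          _ = g * (m * (d : G)) * (d : G)⁻¹ * g⁻¹ := by rw [hcent d d.2 m hm.1]
          _ = g * m * g⁻¹ := by group
      · refine Finset.card_image_le.trans (le_of_eq ?_)
        rw [Finset.card_univ, Subgroup.index_eq_card, Nat.card_eq_fintype_card]
    have h2 : Nat.card N - 1 =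
        ((Finset.univ : Finset G).filter fun n => n ∈ N ∧ n ≠ 1).card := by
      have h3 : ((Finset.univ : Finset G).filter fun n => n ∈ N ∧ n ≠ 1) =
          ((Finset.univ : Finset G).filter fun n => n ∈ N).erase 1 := by
        ext n
        simp [and_comm]
      rw [h3, Finset.card_erase_of_mem (by simp [N.one_mem]), ← Fintype.card_subtype,
        ← Nat.card_eq_fintype_card]
    omega
  · have hS : ∀ c ∈ S, π c = ConjClasses.mk 1 ∧ c ≠ ConjClasses.mk 1 := by
      intro c hc
      obtain ⟨m, hm, rfl⟩ := Finset.mem_image.1 hc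
      simp only [Finset.mem_filter, Finset.mem_univ, true_and] at hm
      refine ⟨?_, fun h => hm.2 ?_⟩
      · show ConjClasses.mk (QuotientGroup.mk' C m) = ConjClasses.mk 1
        rw [show QuotientGroup.mk' C m = 1 from (QuotientGroup.eq_one_iff m).2 (hNC hm.1)]
      · exact (isConj_one_left.1 (ConjClasses.mk_eq_mk_iff_isConj.1 h))
    choose s hs using hπ
    let f : ConjClasses (G ⧸ C) → ConjClasses G := fun c =>
      if c = ConjClasses.mk 1 then ConjClasses.mk 1 else s c
    have hf : ∀ c, π (f c) = c := by
      intro c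
      by_cases h : c = ConjClasses.mk 1
      · simp only [f, if_pos h, h]
        exact congrArg ConjClasses.mk (map_one (QuotientGroup.mk' C))
      · simp only [f, if_neg h]; exact hs c
    have hfi : Function.Injective f := fun a b h => by rw [← hf a, ← hf b, h]
    haveI := Fintype.ofFinite (ConjClasses (G ⧸ C))
    have hd : Disjoint ((Finset.univ : Finset (ConjClasses (G ⧸ C))).image f) S := by
      rw [Finset.disjoint_right]
      intro c hc hc'
      obtain ⟨d, -, rfl⟩ := Finset.mem_image.1 hc'
      obtain ⟨h1, h2⟩ := hS _ hc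
      rw [hf] at h1
      exact h2 (by simp only [f, if_pos h1])
    have := Finset.card_le_univ (((Finset.univ : Finset (ConjClasses (G ⧸ C))).image f) ∪ S)
    rw [Finset.card_union_of_disjoint hd, Finset.card_image_of_injective _ hfi, Finset.card_univ,
      ← Nat.card_eq_fintype_card, ← Nat.card_eq_fintype_card] at this
    exact this

/-- A group with at most three classes has order at most six. -/
theorem card_le_six (h : Nat.card (ConjClasses G) ≤ 3) : Nat.card G ≤ 6 := by
  classical
  haveI := Fintype.ofFinite G
  haveI := Fintype.ofFinite (ConjClasses G)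
  rw [Nat.card_eq_fintype_card] at h ⊢
  let f : ConjClasses G → ℕ := fun c => Nat.card c.carrier
  have hsum : ∑ c, f c = Fintype.card G := by
    have e := sum_conjClasses_card_eq_card G
    rw [← e]
    exact Finset.sum_congr rfl fun c _ => by simp only [f, Nat.card_eq_fintype_card, Set.toFinset_card]
  have hdvd : ∀ c, f c ∣ Fintype.card G := by
    intro c
    obtain ⟨g, rfl⟩ := ConjClasses.exists_rep c
    have := Subgroup.index_dvd_card (MulAction.stabilizer (ConjAct G) g)
    rw [MulAction.index_stabilizer, Nat.card_congr ConjAct.ofConjAct.toEquiv,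
      ConjAct.orbit_eq_carrier_conjClasses, Nat.card_eq_fintype_card (α := G)] at this
    exact this
  have h1 : f (ConjClasses.mk 1) = 1 := by
    have hc : (ConjClasses.mk (1 : G)).carrier = {1} := by
      ext x
      rw [ConjClasses.mem_carrier_iff_mk_eq, ConjClasses.mk_eq_mk_iff_isConj,
        Set.mem_singleton_iff, isConj_comm, isConj_one_right]
    simp only [f, hc, Nat.card_coe_set_eq, Set.ncard_singleton]
  by_contra hn
  push Not at hn
  set n := Fintype.card G with hnd
  have hlt : ∀ c, c ≠ ConjClasses.mk 1 → f c + 1 ≤ n := by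
    intro c hc
    rw [← hsum, ← Finset.add_sum_erase Finset.univ f (Finset.mem_univ (ConjClasses.mk 1)), h1]
    have := Finset.single_le_sum (f := f) (fun i _ => Nat.zero_le _)
      (show c ∈ Finset.univ.erase (ConjClasses.mk 1) by simp [hc])
    omega
  have hle : (Finset.univ.erase (ConjClasses.mk (1 : G))).card ≤ 2 := by
    rw [Finset.card_erase_of_mem (Finset.mem_univ _), Finset.card_univ]; omega
  have hs : ∑ c ∈ Finset.univ.erase (ConjClasses.mk (1 : G)), f c = n - 1 := by
    rw [← hsum, ← Finset.add_sum_erase Finset.univ f (Finset.mem_univ (ConjClasses.mk 1)), h1]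
    omega
  interval_cases hcard : (Finset.univ.erase (ConjClasses.mk (1 : G))).card
  · rw [Finset.card_eq_zero.1 hcard, Finset.sum_empty] at hs; omega
  · obtain ⟨a, ha⟩ := Finset.card_eq_one.1 hcard
    rw [ha, Finset.sum_singleton] at hs
    obtain ⟨k, hk⟩ := hdvd a
    rw [hs] at hk
    rcases Nat.lt_or_ge k 2 with hk2 | hk2
    · interval_cases k <;> omega
    · nlinarith [Nat.sub_add_cancel (show 1 ≤ n by omega)]
  · obtain ⟨a, b, hab, hab'⟩ := Finset.card_eq_two.1 hcard
    rw [hab', Finset.sum_pair hab] at hs
    have key : ∀ x y, x + y = n - 1 → y ≤ x → x ∣ n → y ∣ n → False := by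
      intro x y hxy hle' ⟨k, hk⟩ hy
      obtain rfl : k = 2 := by
        rcases Nat.lt_or_ge k 2 with hk2 | hk2
        · interval_cases k <;> omega
        · rcases Nat.lt_or_ge k 3 with hk3 | hk3
          · omega
          · have := Nat.mul_le_mul_left x hk3
            omega
      have hy' : y = x - 1 := by omega
      have h2 : y ∣ x - 1 := hy' ▸ dvd_rfl
      have h3 : y ∣ 2 * (x - 1) := h2.mul_left 2
      have h4 : y ∣ n - 2 * (x - 1) := Nat.dvd_sub hy h3
      rw [show n - 2 * (x - 1) = 2 by omega] at h4
      have := Nat.le_of_dvd two_pos h4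
      omega
    rcases le_total (f b) (f a) with h' | h'
    · exact key _ _ hs h' (hdvd a) (hdvd b)
    · exact key _ _ (by omega) h' (hdvd b) (hdvd a)

universe u v

/-- A solvable group acting transitively on `Ω`: the index of the kernel is at most
`3 ^ (|Ω| - 1)`. -/
theorem index_ker_le : ∀ (m : ℕ) (T : Type u) [Group T] [Finite T] [Group.IsSolvable T]
    (S : Subgroup T), S.index ≤ m → Nat.card (T ⧸ S.normalCore) ≤ 3 ^ (S.index - 1) := by
  intro m
  induction m with
  | zero => intro T _ _ _ S h; exact absurd (Nat.le_zero.1 h) Subgroup.index_ne_zero_of_finite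
  | succ m ih =>
    intro T _ _ _ S hm
    by_cases hS : S = ⊤
    · subst hS
      have hc : (⊤ : Subgroup T).normalCore = ⊤ := (Subgroup.normalCore_eq_self _)
      rw [Subgroup.index_top, ← Subgroup.index_eq_card, hc, Subgroup.index_top]
      norm_num
    obtain ⟨M, hM, hle⟩ := (eq_top_or_exists_le_coatom S).resolve_left hS
    -- induction inside `M`
    have hidx : (S.subgroupOf M).index * M.index = S.index := Subgroup.relIndex_mul_index hle
    have ht2 : 2 ≤ M.index := by
      rcases Nat.lt_or_ge M.index 2 with h | h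
      · have : M.index ≠ 0 := Subgroup.index_ne_zero_of_finite
        exact absurd (Subgroup.index_eq_one.1 (by omega : M.index = 1)) hM.1
      · exact h
    have hs0 : (S.subgroupOf M).index ≠ 0 := Subgroup.index_ne_zero_of_finite
    have hIH := ih M (S.subgroupOf M) (by nlinarith)
    have hMq := Cfsg.Agent.H30.ClassFit.card_quotient_core_le hM
    rw [← Subgroup.index_eq_card] at hIH hMq ⊢
    -- the conjugates of the core of `S` in `M`
    classical
    let K := M.normalCore
    let J : Subgroup T := ((S.subgroupOf M).normalCore).map M.subtype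
    haveI := Fintype.ofFinite (T ⧸ M)
    have hKJ : ∀ q : T ⧸ M, K ⊓ J.map (MulAut.conj q.out).toMonoidHom ≤ M := fun q =>
      inf_le_left.trans M.normalCore_le
    let A : (T ⧸ M) → Subgroup T := fun q => K ⊓ J.map (MulAut.conj q.out).toMonoidHom
    have hA : ∀ q : T ⧸ M, (A q).relIndex K ≤ (S.subgroupOf M).normalCore.index := by
      intro q
      have e : A q = K ⊓ J.map (MulAut.conj q.out).toMonoidHom := rfl
      rw [e, Subgroup.inf_relIndex_left]
      have hK : K = K.map (MulAut.conj q.out).toMonoidHom := by
        ext x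
        constructor
        · intro hx
          exact ⟨q.out⁻¹ * x * q.out, by
            simpa [mul_assoc] using (Subgroup.normalCore_normal M).conj_mem x hx q.out⁻¹,
            by simp [MulAut.conj_apply, mul_assoc]⟩
        · rintro ⟨y, hy, rfl⟩
          exact (Subgroup.normalCore_normal M).conj_mem y hy q.out
      rw [hK, Subgroup.relIndex_map_map_of_injective J K (MulAut.conj q.out).injective]
      refine le_trans (Subgroup.relIndex_le_of_le_right (M.normalCore_le) ?_) (le_of_eq ?_)
      · exact Subgroup.index_ne_zero_of_finite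
      · show J.relIndex M = _
        simp only [Subgroup.relIndex, Subgroup.subgroupOf, J,
          Subgroup.comap_map_eq_self_of_injective (Subgroup.subtype_injective M)]
    have hinf : (⨅ q, A q) ≤ S.normalCore := by
      intro x hx g
      show g * x * g⁻¹ ∈ S
      rw [Subgroup.mem_iInf] at hx
      have h1 := (Subgroup.mem_inf.1 (hx ((g⁻¹ : T) : T ⧸ M))).2
      obtain ⟨y, hy, hyx⟩ := h1
      obtain ⟨z, hz, rfl⟩ := hy
      obtain ⟨⟨w, hw⟩, hwq⟩ := QuotientGroup.mk_out_eq_mul M g⁻¹
      have hwm : (⟨w, hw⟩ : M) * z * (⟨w, hw⟩ : M)⁻¹ ∈ (S.subgroupOf M).normalCore :=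
        (Subgroup.normalCore_normal _).conj_mem z hz _
      have h2 := (Subgroup.normalCore_le _) hwm
      rw [Subgroup.mem_subgroupOf] at h2
      have : g * x * g⁻¹ = w * (z : T) * w⁻¹ := by
        rw [← hyx]
        simp only [MulEquiv.coe_toMonoidHom, MulAut.conj_apply, Subgroup.coe_subtype, hwq]
        group
      rw [this]
      exact h2
    have hprod : (⨅ q, A q).relIndex K ≤ ∏ q, (A q).relIndex K :=
      Subgroup.relIndex_iInf_le _
    calc S.normalCore.index ≤ (⨅ q, A q).index :=
          Nat.le_of_dvd (Nat.pos_of_ne_zero Subgroup.index_ne_zero_of_finite)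
            (Subgroup.index_dvd_of_le hinf)
      _ = (⨅ q, A q).relIndex K * K.index :=
          (Subgroup.relIndex_mul_index ((iInf_le A ((1 : T) : T ⧸ M)).trans inf_le_left)).symm
      _ ≤ (3 ^ ((S.subgroupOf M).index - 1)) ^ M.index * 3 ^ (M.index - 1) := by
          refine Nat.mul_le_mul (hprod.trans ?_) hMq
          refine (Finset.prod_le_prod' fun q _ => (hA q).trans hIH).trans (le_of_eq ?_)
          rw [Finset.prod_const, Finset.card_univ, ← Nat.card_eq_fintype_card,
            ← Subgroup.index_eq_card]
      _ = 3 ^ (S.index - 1) := by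
          rw [← pow_mul, ← pow_add, ← hidx]
          congr 1
          rw [Nat.sub_mul, one_mul]
          have : M.index ≤ (S.subgroupOf M).index * M.index :=
            Nat.le_mul_of_pos_left _ (Nat.pos_of_ne_zero hs0)
          omega

/-- The image of a solvable group in the permutations of a transitive set. -/
theorem index_le_of_pretransitive {T : Type u} [Group T] [Finite T] [Group.IsSolvable T]
    {Ω : Type v} [Finite Ω] [MulAction T Ω] [MulAction.IsPretransitive T Ω] (ω : Ω) :
    (MulAction.toPermHom T Ω).ker.index ≤ 3 ^ (Nat.card Ω - 1) := by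
  have hidx : (MulAction.stabilizer T ω).index = Nat.card Ω :=
    MulAction.index_stabilizer_of_transitive T ω
  have h := index_ker_le _ T (MulAction.stabilizer T ω) le_rfl
  rw [← Subgroup.index_eq_card, hidx] at h
  refine le_trans (Nat.le_of_dvd (Nat.pos_of_ne_zero Subgroup.index_ne_zero_of_finite)
    (Subgroup.index_dvd_of_le ?_)) h
  intro g hg
  rw [MonoidHom.mem_ker]
  ext w
  obtain ⟨c, rfl⟩ := MulAction.exists_smul_eq T ω w
  have h1 : c⁻¹ * g * c⁻¹⁻¹ ∈ MulAction.stabilizer T ω :=
    (Subgroup.normalCore_le _) ((Subgroup.normalCore_normal _).conj_mem g hg c⁻¹)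
  rw [MulAction.mem_stabilizer_iff, mul_smul, mul_smul, inv_inv, inv_smul_eq_iff] at h1
  simpa using h1

end Cfsg.Agent.H88.ClassBound
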