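import Mathlib

/-!
# Field facts for the scalars of a primitive linear group
-/

set_option autoImplicit false
set_option linter.unusedSectionVars false

namespace Cfsg.Agent.H88.ClassBound

/-- A finite field over the subring generated by one element. -/
theorem field_data {K : Type*} [Field K] [Finite K] (a : K) :
    ∃ b, 1 ≤ b ∧ Nat.card K = Nat.card (Subring.closure ({a} : Set K)) ^ b ∧
      Nat.card {σ : RingAut K // σ a = a} ≤ b := by
  classical
  haveI := Fintype.ofFinite K
  let F : Subfield K :=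
    { Subring.closure ({a} : Set K) with
      inv_mem' := fun x hx => by
        rcases eq_or_ne x 0 with rfl | h0
        · rw [inv_zero]; exact Subring.zero_mem _
        have h2 : 2 ≤ Fintype.card K := Fintype.one_lt_card
        have e : x⁻¹ = x ^ (Fintype.card K - 2) := by
          refine (eq_inv_of_mul_eq_one_left ?_).symm
          rw [← pow_succ, show Fintype.card K - 2 + 1 = Fintype.card K - 1 by omega,
            FiniteField.pow_card_sub_one_eq_one x h0]
        rw [e]
        exact Subring.pow_mem (Subring.closure ({a} : Set K)) hx _ }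
  refine ⟨Module.finrank F K, Module.finrank_pos, ?_, ?_⟩
  · exact Module.natCard_eq_pow_finrank (K := F) (V := K)
  · let Φ : {σ : RingAut K // σ a = a} → (K ≃ₐ[F] K) := fun σ =>
      AlgEquiv.ofRingEquiv (f := σ.1) fun r => by
        have h : Set.EqOn (σ.1 : K →+* K) (RingHom.id K) (Subring.closure ({a} : Set K)) :=
          RingHom.eqOn_set_closure fun x hx => by
            rw [Set.mem_singleton_iff.1 hx]; exact σ.2
        exact h r.2
    refine le_trans (Nat.card_le_card_of_injective Φ fun σ τ h => ?_) ?_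
    · exact Subtype.ext (RingEquiv.ext fun x => DFunLike.congr_fun h x)
    · rw [Nat.card_eq_fintype_card]; exact AlgEquiv.card_le

/-- Eigenvectors with distinct eigencharacters are independent. -/
theorem card_le_finrank_of_characters {K M B Q : Type*} [Field K] [Monoid B] [AddCommGroup M]
    [Module K M] [FiniteDimensional K M] [Finite Q] (Φ : B → M →ₗ[K] M) (m : Q → M)
    (hm : ∀ q, m q ≠ 0) (χ : Q → B →* K) (hχ : Function.Injective χ)
    (h : ∀ b q, Φ b (m q) = χ q b • m q) : Nat.card Q ≤ Module.finrank K M := by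
  classical
  haveI := Fintype.ofFinite Q
  have hchar := (linearIndependent_monoidHom B K).comp χ hχ
  have hli : LinearIndependent K m := by
    rw [Fintype.linearIndependent_iff]
    intro c hc q
    have hb : ∀ b, ∑ i, (c i * χ i b) • m i = 0 := by
      intro b
      have := congrArg (Φ b) hc
      simp only [map_sum, map_smul, h, map_zero, smul_smul] at this
      exact this
    have hd : ∀ φ : Module.Dual K M, c q * φ (m q) = 0 := by
      intro φ
      have hz : ∑ i, (c i * φ (m i)) • ((χ i : B →* K) : B → K) = 0 := by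
        funext b
        have := congrArg φ (hb b)
        simp only [map_sum, map_smul, map_zero, smul_eq_mul] at this
        simp only [Finset.sum_apply, Pi.smul_apply, smul_eq_mul, Pi.zero_apply]
        rw [← this]
        exact Finset.sum_congr rfl fun i _ => by ring
      exact Fintype.linearIndependent_iff.1 hchar _ hz q
    have h0 : c q • m q = 0 := (Module.forall_dual_apply_eq_zero_iff K _).1 fun φ => by
      rw [map_smul, smul_eq_mul]; exact hd φ
    exact (smul_eq_zero.1 h0).resolve_right (hm q)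
  rw [Nat.card_eq_fintype_card]
  exact hli.fintype_card_le_finrank

/-- A finite cyclic group embeds in `ℂ`. -/
theorem exists_hom_complex (T : Type*) [Group T] [Finite T] [IsCyclic T] :
    ∃ ι : T →* ℂ, Function.Injective ι := by
  haveI : NeZero (Nat.card T) := ⟨Nat.card_pos.ne'⟩
  let e := zmodCyclicMulEquiv (G := T) inferInstance
  let ψ : Multiplicative (ZMod (Nat.card T)) →* ℂ :=
    (ZMod.stdAddChar (N := Nat.card T)).toMonoidHom
  refine ⟨ψ.comp e.symm.toMonoidHom, fun x y h => e.symm.injective ?_⟩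
  exact Multiplicative.toAdd.injective (ZMod.injective_stdAddChar h)

theorem no_block_arith {q b n e m : ℕ} (hq : 128 ≤ q) (hb : 1 ≤ b) (hn : 1 ≤ n) (hen : e ≤ n)
    (h : (e * m) ^ 6 * 2 ^ 14 ≤ 2 ^ (21 * e)) :
    (b * (e * m)) ^ 6 * q ^ 2 ≤ ((q ^ b) ^ n) ^ 3 := by
  have hq0 : 1 ≤ q := le_trans (by norm_num) hq
  have hX : (e * m) ^ 6 ≤ q ^ (3 * n - 2) := by
    have h2 : (e * m) ^ 6 * 2 ^ 14 ≤ 2 ^ (7 * (3 * n - 2)) * 2 ^ 14 := by
      rw [← pow_add]
      exact h.trans (Nat.pow_le_pow_right two_pos (by omega))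
    refine (Nat.le_of_mul_le_mul_right h2 (by norm_num)).trans ?_
    rw [pow_mul]
    exact Nat.pow_le_pow_left (by norm_num; omega) _
  have hb6 : b ^ 6 ≤ q ^ (3 * n * (b - 1)) := by
    have h1 : b ≤ 2 ^ (b - 1) := by
      obtain ⟨r, rfl⟩ : ∃ r, b = r + 1 := ⟨b - 1, by omega⟩
      rw [Nat.add_sub_cancel]
      exact Nat.lt_two_pow_self
    refine (Nat.pow_le_pow_left h1 6).trans ?_
    rw [← pow_mul, show (b - 1) * 6 = 6 * (b - 1) by ring]
    refine le_trans ?_ (Nat.pow_le_pow_right hq0
      (Nat.mul_le_mul_right (b - 1) (show 3 ≤ 3 * n by omega)))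
    rw [pow_mul, pow_mul q]
    exact Nat.pow_le_pow_left ((show 2 ^ 6 ≤ q by norm_num; omega).trans
      (Nat.le_self_pow (by norm_num) q)) _
  calc (b * (e * m)) ^ 6 * q ^ 2 = b ^ 6 * (e * m) ^ 6 * q ^ 2 := by rw [mul_pow]
    _ ≤ q ^ (3 * n * (b - 1)) * q ^ (3 * n - 2) * q ^ 2 := by gcongr
    _ = ((q ^ b) ^ n) ^ 3 := by
        rw [← pow_add, ← pow_add, ← pow_mul, ← pow_mul]
        congr 1
        obtain ⟨r, rfl⟩ : ∃ r, b = r + 1 := ⟨b - 1, by omega⟩
        rw [Nat.add_sub_cancel, add_assoc, Nat.sub_add_cancel (by omega)]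
        ring

theorem block_arith {q t y w : ℕ} (hq : 128 ≤ q) (ht : 1 ≤ t) (h : y ^ 6 * q ^ 2 ≤ w ^ 3) :
    (3 ^ (t - 1) * y ^ t) ^ 6 * q ^ 2 ≤ (w ^ t) ^ 3 := by
  have h729 : 3 ^ 6 ≤ q ^ 2 := by
    have := Nat.pow_le_pow_left hq 2
    norm_num at this ⊢
    omega
  calc (3 ^ (t - 1) * y ^ t) ^ 6 * q ^ 2 = (3 ^ 6) ^ (t - 1) * ((y ^ 6) ^ t * q ^ 2) := by
        rw [mul_pow, ← pow_mul, ← pow_mul, ← pow_mul, ← pow_mul, mul_comm (t - 1) 6,
          mul_comm t 6]
        ring
    _ ≤ (q ^ 2) ^ (t - 1) * ((y ^ 6) ^ t * q ^ 2) := by gcongr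
    _ = (y ^ 6 * q ^ 2) ^ t := by
        rw [mul_pow, mul_comm ((y ^ 6) ^ t) (q ^ 2), ← mul_assoc, ← pow_succ,
          Nat.sub_add_cancel ht]
        ring
    _ ≤ (w ^ 3) ^ t := Nat.pow_le_pow_left h t
    _ = (w ^ t) ^ 3 := by rw [← pow_mul, ← pow_mul, mul_comm]

end Cfsg.Agent.H88.ClassBound
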