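import Mathlib
import Cfsg.Agent.H10.BaseThree.Primitive

/-!
# Scalars of an irreducible action, and the ring generated by one operator
-/

set_option autoImplicit false
set_option linter.unusedSectionVars false

namespace Cfsg.Agent.H88.ClassBound

open Cfsg.Agent.H10.BaseThree

/-- The size of the ring of endomorphisms generated by one operator. -/
noncomputable def ringCard (W : Type*) {C : Type*} [Group C] [AddCommGroup W]
    [DistribMulAction C W] (z : C) : ℕ :=
  Nat.card (Subring.closure ({DistribMulAction.toAddMonoidEnd C W z} : Set (AddMonoid.End W)))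

theorem exists_lift {W W₀ : Type*} [AddCommGroup W] [AddCommGroup W₀] {z : AddMonoid.End W}
    {z₁ : AddMonoid.End W₀} (ι : W₀ →+ W) (h : ∀ w, z (ι w) = ι (z₁ w)) {x : AddMonoid.End W}
    (hx : x ∈ Subring.closure ({z} : Set (AddMonoid.End W))) :
    ∃ y ∈ Subring.closure ({z₁} : Set (AddMonoid.End W₀)), ∀ w, x (ι w) = ι (y w) := by
  induction hx using Subring.closure_induction with
  | mem a ha =>
    rw [Set.mem_singleton_iff.1 ha]
    exact ⟨z₁, Subring.subset_closure rfl, h⟩
  | zero => exact ⟨0, zero_mem _, fun w => (map_zero ι).symm⟩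
  | one => exact ⟨1, one_mem _, fun w => rfl⟩
  | add a b _ _ ha hb =>
    obtain ⟨a', ha', hea⟩ := ha
    obtain ⟨b', hb', heb⟩ := hb
    exact ⟨a' + b', add_mem ha' hb', fun w => by
      change a (ι w) + b (ι w) = ι (a' w + b' w); rw [hea, heb, map_add]⟩
  | neg a _ ha =>
    obtain ⟨a', ha', hea⟩ := ha
    exact ⟨-a', neg_mem ha', fun w => by
      change -a (ι w) = ι (-a' w); rw [hea, map_neg]⟩
  | mul a b _ _ ha hb =>
    obtain ⟨a', ha', hea⟩ := ha
    obtain ⟨b', hb', heb⟩ := hb
    exact ⟨a' * b', mul_mem ha' hb', fun w => by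
      change a (b (ι w)) = ι (a' (b' w)); rw [heb, hea]⟩

theorem card_closure_le {W W₀ : Type*} [AddCommGroup W] [AddCommGroup W₀] [Finite W₀]
    {z : AddMonoid.End W} {z₁ : AddMonoid.End W₀} (ι : W₀ →+ W)
    (h : ∀ w, z (ι w) = ι (z₁ w))
    (hinj : ∀ x ∈ Subring.closure ({z} : Set (AddMonoid.End W)), (∀ w, x (ι w) = 0) → x = 0) :
    Nat.card (Subring.closure ({z} : Set (AddMonoid.End W))) ≤
      Nat.card (Subring.closure ({z₁} : Set (AddMonoid.End W₀))) := by
  choose y hy hyx using fun x : Subring.closure ({z} : Set (AddMonoid.End W)) =>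
    exists_lift ι h x.2
  refine Nat.card_le_card_of_injective (fun x => (⟨y x, hy x⟩ :
    Subring.closure ({z₁} : Set (AddMonoid.End W₀)))) fun a b hab => ?_
  refine Subtype.ext (sub_eq_zero.1 (hinj _ (sub_mem a.2 b.2) fun w => ?_))
  change (a : AddMonoid.End W) (ι w) - (b : AddMonoid.End W) (ι w) = 0
  rw [hyx, hyx, show y a = y b from congrArg Subtype.val hab, sub_self]

section Central

variable {C W : Type*} [Group C] [AddCommGroup W] [DistribMulAction C W]

theorem closure_smul_comm {z : C} (hz : ∀ (g : C) (w : W), g • z • w = z • g • w)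
    {x : AddMonoid.End W}
    (hx : x ∈ Subring.closure ({DistribMulAction.toAddMonoidEnd C W z} : Set (AddMonoid.End W)))
    (g : C) (w : W) : g • x w = x (g • w) := by
  induction hx using Subring.closure_induction generalizing w with
  | mem a ha =>
    rw [Set.mem_singleton_iff.1 ha]
    exact hz g w
  | zero => exact smul_zero g
  | one => rfl
  | add a b _ _ ha hb =>
    change g • (a w + b w) = a (g • w) + b (g • w)
    rw [smul_add, ha, hb]
  | neg a _ ha =>
    change g • (-a w) = -a (g • w)
    rw [smul_neg, ha]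
  | mul a b _ _ ha hb =>
    change g • a (b w) = a (b (g • w))
    rw [ha, hb]

/-- Schur: a nonzero element of the ring is injective. -/
theorem closure_eq_zero (hirr : Irred C W) {z : C}
    (hz : ∀ (g : C) (w : W), g • z • w = z • g • w) {x : AddMonoid.End W}
    (hx : x ∈ Subring.closure ({DistribMulAction.toAddMonoidEnd C W z} : Set (AddMonoid.End W)))
    {v : W} (hv : v ≠ 0) (hxv : x v = 0) : x = 0 := by
  let U : AddSubgroup W :=
    { carrier := {w | x w = 0}
      add_mem' := fun {a b} (ha : x a = 0) (hb : x b = 0) => by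
        change x (a + b) = 0; rw [map_add, ha, hb, add_zero]
      zero_mem' := map_zero x
      neg_mem' := fun {a} (ha : x a = 0) => by change x (-a) = 0; rw [map_neg, ha, neg_zero] }
  rcases hirr.2 U (fun g w (hw : x w = 0) => by
      change x (g • w) = 0
      rw [← closure_smul_comm hz hx, hw, smul_zero]) with h | h
  · exfalso
    have : v ∈ U := hxv
    rw [h, AddSubgroup.mem_bot] at this
    exact hv this
  · exact AddMonoidHom.ext fun w => (h ▸ AddSubgroup.mem_top w : w ∈ U)

end Central

variable {G V : Type*} [Group G] [AddCommGroup V] [DistribMulAction G V] [Finite V]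

/-- If no scalar is a block idempotent then nonzero scalars have trivial kernel. -/
theorem scalars_injective_of_no_block (hirr : Irred G V)
    {T : Subgroup G} [T.Normal] (hnb : ∀ e ∈ scalars V T, ¬ IsBlock G e) (hT : ∀ a ∈ T, ∀ b ∈ T, a * b = b * a)
    {x : AddMonoid.End V} (hx : x ∈ scalars V T) (hx0 : x ≠ 0) {v : V} (hv : x v = 0) : v = 0 := by
  classical
  have := hirr.1
  -- no nilpotent scalars
  have hnil : ∀ y ∈ scalars V T, IsNilpotent y → y = 0 := by
    let U : AddSubgroup V :=
      { carrier := {w | ∀ y ∈ scalars V T, IsNilpotent y → y w = 0}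
        add_mem' := fun ha hb y hy hn => by rw [map_add, ha y hy hn, hb y hy hn, add_zero]
        zero_mem' := fun y _ _ => map_zero y
        neg_mem' := fun ha y hy hn => by rw [map_neg, ha y hy hn, neg_zero] }
    have hinv : ∀ g : G, ∀ w ∈ U, g • w ∈ U := by
      intro g w hw y hy hn
      obtain ⟨n, hn⟩ := hn
      have hn' : IsNilpotent (cnj g⁻¹ y) := by
        refine ⟨n, ?_⟩
        have : ∀ m, cnj g⁻¹ y ^ m = cnj g⁻¹ (y ^ m) := by
          intro m
          induction m with
          | zero => ext u; simp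
          | succ m ih => rw [pow_succ, pow_succ, ih, cnj_map_mul]
        rw [this, hn, cnj_map_zero]
      have h1 := hw (cnj g⁻¹ y) (cnj_mem_scalars hy _) hn'
      rw [cnj_apply, inv_inv, smul_eq_zero_iff_eq] at h1
      exact h1
    rcases hirr.2 U hinv with h | h
    · exfalso
      -- a vector with maximal annihilator is killed by every nilpotent scalar
      have : ∃ w : V, w ≠ 0 ∧ ∀ u : V, u ≠ 0 →
          ({y | y ∈ scalars V T ∧ y w = 0} ⊆ {y | y ∈ scalars V T ∧ y u = 0}) →
          {y | y ∈ scalars V T ∧ y u = 0} ⊆ {y | y ∈ scalars V T ∧ y w = 0} := by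
        obtain ⟨w, hw, hmax⟩ := Set.Finite.exists_maximalFor
          (fun w => {y | y ∈ scalars V T ∧ y w = 0}) {w : V | w ≠ 0} (Set.toFinite _)
          (exists_ne 0)
        exact ⟨w, hw, fun u hu hle => hmax hu hle⟩
      obtain ⟨w, hw, hmax⟩ := this
      refine hw (AddSubgroup.mem_bot.1 (h ▸ (fun y hy hn => ?_ : w ∈ U)))
      by_contra hyw
      obtain ⟨n, hn⟩ := hn
      have hsub : {z | z ∈ scalars V T ∧ z w = 0} ⊆ {z | z ∈ scalars V T ∧ z (y w) = 0} := by
        rintro z ⟨hz, hzw⟩
        refine ⟨hz, ?_⟩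
        have := DFunLike.congr_fun (scalars_comm hT hz hy) w
        simp only [AddMonoid.End.coe_mul, Function.comp_apply] at this
        rw [this, hzw, map_zero]
      have hpow : ∀ m, (y ^ (m + 1)) w ≠ 0 := by
        intro m
        induction m with
        | zero => simpa using hyw
        | succ m ih =>
          intro hc
          refine ih (hmax (y w) hyw hsub ⟨pow_mem hy _, ?_⟩).2
          rw [pow_succ, AddMonoid.End.coe_mul, Function.comp_apply] at hc
          exact hc
      have := hpow n
      rw [pow_succ, hn, zero_mul] at this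
      exact this rfl
    · intro y hy hn
      exact AddMonoidHom.ext fun w => (h ▸ AddSubgroup.mem_top w : w ∈ U) y hy hn
  -- no nontrivial idempotent scalars
  have hidem : ∀ e ∈ scalars V T, e * e = e → e = 0 ∨ e = 1 := by
    by_contra hc
    push Not at hc
    obtain ⟨f, hf, hff, hf0, hf1⟩ := hc
    obtain ⟨e, ⟨he, hee, he0, he1⟩, hmin⟩ := Set.Finite.exists_minimalFor
      (fun e : AddMonoid.End V => Nat.card (Set.range e))
      {e : AddMonoid.End V | e ∈ scalars V T ∧ e * e = e ∧ e ≠ 0 ∧ e ≠ 1} (Set.toFinite _)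
      ⟨f, hf, hff, hf0, hf1⟩
    have hfix : ∀ a : AddMonoid.End V, a * a = a → ∀ w ∈ Set.range a, a w = w := by
      rintro a ha _ ⟨u, rfl⟩
      exact DFunLike.congr_fun ha u
    have hatom : ∀ d ∈ scalars V T, d * d = d → e * d = 0 ∨ e * d = e := by
      intro d hd hdd
      rcases eq_or_ne (e * d) 0 with h | h
      · exact Or.inl h
      refine Or.inr ?_
      have hi : e * d * (e * d) = e * d := by
        rw [mul_assoc, ← mul_assoc d, scalars_comm hT hd he, mul_assoc e d, hdd, ← mul_assoc, hee]
      have h1 : e * d ≠ 1 := by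
        intro hc
        apply he1
        rw [← mul_one e, ← hc, ← mul_assoc, hee]
      have hsub : Set.range (e * d : AddMonoid.End V) ⊆ Set.range e := by
        rintro _ ⟨u, rfl⟩; exact ⟨d u, rfl⟩
      have hcard := hmin ⟨mul_mem he hd, hi, h, h1⟩
        (Nat.card_mono (Set.toFinite _) hsub)
      have heq : Set.range (e * d : AddMonoid.End V) = Set.range e :=
        Set.eq_of_subset_of_ncard_le hsub hcard (Set.toFinite _)
      refine AddMonoidHom.ext fun u => ?_
      have h2 : e u ∈ Set.range (e * d : AddMonoid.End V) := heq ▸ ⟨u, rfl⟩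
      have h3 := hfix _ hi _ h2
      have h4 : e * d * e = e * d := by
        rw [mul_assoc, scalars_comm hT hd he, ← mul_assoc, hee]
      have h5 := DFunLike.congr_fun h4 u
      exact h5.symm.trans h3
    refine hnb e he ⟨hee, he0, he1, fun g hg => ?_⟩
    have hge : cnj g e ∈ scalars V T := cnj_mem_scalars he g
    have hgee : cnj g e * cnj g e = cnj g e := by rw [← cnj_map_mul, hee]
    rw [scalars_comm hT hge he]
    rcases hatom _ hge hgee with h | h
    · exact h
    exfalso
    apply hg
    have hsub : Set.range e ⊆ Set.range (cnj g e : AddMonoid.End V) := by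
      rintro _ ⟨u, rfl⟩
      refine ⟨e u, ?_⟩
      have h' := scalars_comm hT hge he
      rw [h] at h'
      have := DFunLike.congr_fun h' u
      exact this
    have hcard : Nat.card (Set.range (cnj g e : AddMonoid.End V)) ≤ Nat.card (Set.range e) := by
      have himg : Set.range (cnj g e : AddMonoid.End V) = (g • ·) '' Set.range e := by
        ext w
        constructor
        · rintro ⟨u, rfl⟩; exact ⟨e (g⁻¹ • u), ⟨_, rfl⟩, rfl⟩
        · rintro ⟨_, ⟨u, rfl⟩, rfl⟩; exact ⟨g • u, by simp⟩
      rw [himg]
      exact Nat.card_image_le (Set.toFinite _)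
    have heq : Set.range e = Set.range (cnj g e : AddMonoid.End V) :=
      Set.eq_of_subset_of_ncard_le hsub hcard (Set.toFinite _)
    refine AddMonoidHom.ext fun u => ?_
    have h2 : cnj g e u ∈ Set.range e := heq ▸ ⟨u, rfl⟩
    have h3 := hfix _ hee _ h2
    exact h3.symm.trans (DFunLike.congr_fun h u)
  obtain ⟨k, hk, hkk⟩ := exists_idempotent_pow x
  rcases hidem _ (pow_mem hx k) hkk with h | h
  · exact absurd (hnil x hx ⟨k, h⟩) hx0
  · obtain ⟨j, rfl⟩ : ∃ j, k = j + 1 := ⟨k - 1, by omega⟩
    have := DFunLike.congr_fun h v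
    rw [pow_succ, AddMonoid.End.coe_mul, Function.comp_apply, hv, map_zero] at this
    exact this.symm

end Cfsg.Agent.H88.ClassBound
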