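import Mathlib
import Cfsg.Agent.H88.ClassBound.Count
import Cfsg.Agent.H88.ClassBound.Field
import Cfsg.Agent.H30.ClassFit.Alt

/-!
# Classes meeting a normal elementary abelian subgroup, through a hyperplane
-/

set_option autoImplicit false
set_option linter.unusedSectionVars false

namespace Cfsg.Agent.H88.ClassBound

variable {H : Type*} [Group H]

/-- The elements normalising `M` (which lies in the normal abelian `Z`) and acting trivially on
`Z / M`. -/
def centMod (Z M : Subgroup H) [hZ : Z.Normal] (hMZ : M ≤ Z) : Subgroup H where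
  carrier := {g | ∀ x ∈ Z, g * x * g⁻¹ * x⁻¹ ∈ M}
  one_mem' x _ := by simp
  mul_mem' := fun {a b} ha hb x hx => by
    have h1 : b * x * b⁻¹ * x⁻¹ ∈ M := hb x hx
    have h2 := ha _ (hMZ h1)
    have h3 : a * (b * x * b⁻¹ * x⁻¹) * a⁻¹ ∈ M := by
      have := M.mul_mem h2 h1
      rwa [inv_mul_cancel_right] at this
    have := M.mul_mem h3 (ha x hx)
    have e : a * (b * x * b⁻¹ * x⁻¹) * a⁻¹ * (a * x * a⁻¹ * x⁻¹) =
        a * b * x * (a * b)⁻¹ * x⁻¹ := by group
    rwa [e] at this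
  inv_mem' := fun {a} ha x hx => by
    have hy : a⁻¹ * x * a ∈ Z := by simpa using hZ.conj_mem x hx a⁻¹
    have h1 := M.inv_mem (ha _ hy)
    have e : (a * (a⁻¹ * x * a) * a⁻¹ * (a⁻¹ * x * a)⁻¹)⁻¹ = a⁻¹ * x * a⁻¹⁻¹ * x⁻¹ := by group
    rwa [e] at h1

theorem mem_centMod {Z M : Subgroup H} [Z.Normal] {hMZ : M ≤ Z} {g : H} :
    g ∈ centMod Z M hMZ ↔ ∀ x ∈ Z, g * x * g⁻¹ * x⁻¹ ∈ M := Iff.rfl

theorem centMod_le_normalizer {Z M : Subgroup H} [Z.Normal] (hMZ : M ≤ Z) :
    centMod Z M hMZ ≤ Subgroup.normalizer (M : Set H) := by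
  intro g hg
  rw [Subgroup.mem_normalizer_iff]
  have key : ∀ h ∈ centMod Z M hMZ, ∀ x ∈ M, h * x * h⁻¹ ∈ M := fun h hh x hx => by
    have := M.mul_mem (hh x (hMZ hx)) hx
    rwa [inv_mul_cancel_right] at this
  exact fun x => ⟨key g hg x, fun hx => by
    simpa [mul_assoc] using key g⁻¹ (inv_mem hg) _ hx⟩

theorem card_le_kcard_of_hyperplane [Finite H] (Z M : Subgroup H) [hZn : Z.Normal] (hMZ : M ≤ Z)
    (hc : ∀ a ∈ Z, ∀ b ∈ Z, a * b = b * a) {p : ℕ} (hp : p.Prime) (hidx : M.relIndex Z = p) :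
    p ≤ (centMod Z M hMZ).relIndex (Subgroup.normalizer (M : Set H)) *
      Nat.card (ConjClasses H) := by
  classical
  haveI := Fact.mk hp
  let St := centMod Z M hMZ
  let N := Subgroup.normalizer (M : Set H)
  letI : CommGroup Z :=
    { (inferInstance : Group Z) with mul_comm := fun a b => Subtype.ext (hc a a.2 b b.2) }
  let M' := M.subgroupOf Z
  have hcard : Nat.card (Z ⧸ M') = p := hidx
  haveI : IsCyclic (Z ⧸ M') := isCyclic_of_prime_card hcard
  obtain ⟨ι, hι⟩ := exists_hom_complex (Z ⧸ M')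
  let χ : Z →* ℂ := ι.comp (QuotientGroup.mk' M')
  have hχ : ∀ x : Z, χ x = 1 ↔ (x : H) ∈ M := fun x => by
    change ι (x : Z ⧸ M') = 1 ↔ _
    rw [← map_one ι, hι.eq_iff, QuotientGroup.eq_one_iff, Subgroup.mem_subgroupOf]
  have hχp : ∀ x : Z, χ x ^ p = 1 := fun x => by
    change ι (x : Z ⧸ M') ^ p = 1
    rw [← map_pow, ← hcard, pow_card_eq_one', map_one]
  have hχpow : ∀ c, 0 < c → c < p → ∀ x : Z, χ x ^ c = 1 ↔ (x : H) ∈ M := fun c h0 hc' x => by
    rw [← hχ]
    refine ⟨fun h => ?_, fun h => by rw [h, one_pow]⟩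
    have h1 := pow_gcd_eq_one.2 ⟨h, hχp x⟩
    rwa [show Nat.gcd c p = 1 from (Nat.coprime_of_lt_prime h0.ne' hc' hp).symm, pow_one] at h1
  -- conjugation
  let cj : H → Z → Z := fun g x => ⟨g * (x : H) * g⁻¹, hZn.conj_mem x x.2 g⟩
  letI actZ : MulAction H Z :=
    { smul := cj
      one_smul := fun x => Subtype.ext (by change 1 * (x : H) * 1⁻¹ = x; simp)
      mul_smul := fun g h x => Subtype.ext (by
        change g * h * (x : H) * (g * h)⁻¹ = g * (h * (x : H) * h⁻¹) * g⁻¹; group) }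
  let cd : H → (Z →* ℂ) → (Z →* ℂ) := fun g φ =>
    { toFun := fun x => φ (cj g⁻¹ x)
      map_one' := by
        rw [show cj g⁻¹ 1 = 1 from Subtype.ext (by simp [cj]), map_one]
      map_mul' := fun a b => by
        rw [← map_mul]; exact congrArg φ (Subtype.ext (by simp [cj, mul_assoc])) }
  letI actD : MulAction H (Z →* ℂ) :=
    { smul := cd
      one_smul := fun φ => MonoidHom.ext fun x => congrArg φ (Subtype.ext (by simp [cj]))
      mul_smul := fun g h φ => MonoidHom.ext fun x =>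
        congrArg φ (Subtype.ext (by simp [cj, mul_assoc])) }
  haveI : Finite (Z →* ℂ) := (H30.ClassFit.Alt.card_monoidHom_le Z).1
  haveI := Fintype.ofFinite H
  haveI := Fintype.ofFinite Z
  haveI := Fintype.ofFinite (Z →* ℂ)
  -- fixed characters
  have hfix : ∀ g : H, Fintype.card (MulAction.fixedBy (Z →* ℂ) g) ≤
      Fintype.card (MulAction.fixedBy Z g) := by
    intro g
    rw [← Nat.card_eq_fintype_card, ← Nat.card_eq_fintype_card]
    let δ : Z →* Z :=
      { toFun := fun x => cj g x * x⁻¹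
        map_one' := Subtype.ext (by simp [cj])
        map_mul' := fun a b => by
          rw [show cj g (a * b) = cj g a * cj g b from Subtype.ext (by simp [cj, mul_assoc]),
            mul_inv, mul_mul_mul_comm] }
    have hker : Nat.card δ.ker = Nat.card (MulAction.fixedBy Z g) := by
      refine Nat.card_congr (Equiv.subtypeEquivRight fun x => ?_)
      rw [MonoidHom.mem_ker, MulAction.mem_fixedBy]
      exact mul_inv_eq_one
    obtain ⟨hfin, hle⟩ := H30.ClassFit.Alt.card_monoidHom_le (Z ⧸ δ.range)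
    rw [← hker]
    refine le_trans ?_ (hle.trans (le_of_eq ?_))
    · have hw : ∀ φ : MulAction.fixedBy (Z →* ℂ) g, δ.range ≤ (φ : Z →* ℂ).ker := by
        rintro ⟨φ, hφ⟩ _ ⟨x, rfl⟩
        have h1 : φ (cj g⁻¹ (cj g x)) = φ (cj g x) := DFunLike.congr_fun hφ (cj g x)
        rw [show cj g⁻¹ (cj g x) = x from Subtype.ext (by simp [cj, mul_assoc])] at h1
        rw [MonoidHom.mem_ker]
        change φ (cj g x * x⁻¹) = 1
        rw [map_mul, ← h1, ← map_mul, mul_inv_cancel, map_one]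
      refine Nat.card_le_card_of_injective (fun φ => QuotientGroup.lift δ.range _ (hw φ))
        fun φ ψ h => Subtype.ext (MonoidHom.ext fun x => DFunLike.congr_fun h (x : Z ⧸ δ.range))
    · rw [← Subgroup.index_eq_card]
      have h1 := Subgroup.index_mul_card δ.range
      have h2 := Subgroup.card_mul_index δ.ker
      rw [Subgroup.index_ker] at h2
      exact Nat.eq_of_mul_eq_mul_right (Nat.card_pos (α := δ.range)) (h1.trans h2.symm)
  -- orbits
  let oD := MulAction.orbitRel.Quotient H (Z →* ℂ)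
  let oZ := MulAction.orbitRel.Quotient H Z
  haveI := Fintype.ofFinite oD
  haveI := Fintype.ofFinite oZ
  have horb : Fintype.card oD ≤ Fintype.card oZ := by
    refine Nat.le_of_mul_le_mul_right ?_ (Fintype.card_pos (α := H))
    rw [← MulAction.sum_card_fixedBy_eq_card_orbits_mul_card_group,
      ← MulAction.sum_card_fixedBy_eq_card_orbits_mul_card_group]
    exact Finset.sum_le_sum fun g _ => hfix g
  have hoZ : Fintype.card oZ ≤ Nat.card (ConjClasses H) := by
    rw [← Nat.card_eq_fintype_card]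
    refine Nat.card_le_card_of_injective
      (fun o : oZ => ConjClasses.mk ((o.out : Z) : H)) fun a b h => ?_
    obtain ⟨g, hg⟩ := isConj_iff.1 (ConjClasses.mk_eq_mk_iff_isConj.1 h)
    rw [← Quotient.out_eq' a, ← Quotient.out_eq' b]
    exact (Quotient.sound' (s₁ := MulAction.orbitRel H Z) (show (b.out : Z) ∈ MulAction.orbit H (a.out : Z) from ⟨g, Subtype.ext hg⟩)).symm
  -- the line of a hyperplane
  let L : Fin p → oD := fun c => Quotient.mk'' (χ ^ (c : ℕ))
  have hinjpow : Function.Injective fun c : Fin p => χ ^ (c : ℕ) := by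
    intro c c' h
    obtain ⟨x₀, hx₀, hx₀M⟩ : ∃ x ∈ Z, x ∉ M := by
      by_contra hcon
      push Not at hcon
      rw [Subgroup.relIndex_eq_one.2 hcon] at hidx
      exact hp.one_lt.ne hidx
    have h1 : χ ⟨x₀, hx₀⟩ ≠ 1 := fun e => hx₀M ((hχ _).1 e)
    have h2 := orderOf_eq_prime (hχp ⟨x₀, hx₀⟩) h1
    refine Fin.ext (pow_injOn_Iio_orderOf ?_ ?_ (DFunLike.congr_fun h ⟨x₀, hx₀⟩))
    · rw [h2]; exact c.2
    · rw [h2]; exact c'.2
  have hfib : ∀ o ∈ (Finset.univ : Finset (Fin p)).image L,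
      ((Finset.univ : Finset (Fin p)).filter fun c => L c = o).card ≤ St.relIndex N := by
    intro o ho
    obtain ⟨d, -, rfl⟩ := Finset.mem_image.1 ho
    have hpos : 0 < St.relIndex N := Nat.pos_of_ne_zero Subgroup.index_ne_zero_of_finite
    rw [← Finset.card_image_of_injective _ hinjpow]
    haveI := Fintype.ofFinite (N ⧸ St.subgroupOf N)
    refine le_trans (Finset.card_le_card (t := (Finset.univ : Finset (N ⧸ St.subgroupOf N)).image
      fun n => ((n.out : N) : H) • χ ^ (d : ℕ)) ?_) (Finset.card_image_le.trans (le_of_eq ?_))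
    · intro φ hφ
      obtain ⟨c, hc, rfl⟩ := Finset.mem_image.1 hφ
      obtain ⟨g, hg⟩ := Quotient.exact' (Finset.mem_filter.1 hc).2
      change g • χ ^ (d : ℕ) = χ ^ (c : ℕ) at hg
      have hgx : ∀ x : Z, χ (cj g⁻¹ x) ^ (d : ℕ) = χ x ^ (c : ℕ) := fun x =>
        DFunLike.congr_fun hg x
      rw [Finset.mem_image]
      by_cases hd : (d : ℕ) = 0
      · refine ⟨((1 : N) : N ⧸ St.subgroupOf N), Finset.mem_univ _, ?_⟩
        rw [← hg, hd, pow_zero]
        exact MonoidHom.ext fun x => rfl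
      have hc0 : (c : ℕ) ≠ 0 := by
        intro h0
        obtain ⟨x, hx, hxM⟩ : ∃ x ∈ Z, x ∉ M := by
          by_contra hcon
          push Not at hcon
          rw [Subgroup.relIndex_eq_one.2 hcon] at hidx
          exact hp.one_lt.ne hidx
        have h1 := hgx (cj g ⟨x, hx⟩)
        rw [show cj g⁻¹ (cj g ⟨x, hx⟩) = ⟨x, hx⟩ from Subtype.ext (by simp [cj, mul_assoc]), h0,
          pow_zero] at h1
        exact hxM ((hχpow _ (Nat.pos_of_ne_zero hd) d.2 _).1 h1)
      have hgN : g⁻¹ ∈ N := by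
        rw [Subgroup.mem_normalizer_iff]
        intro x
        have key : ∀ y : Z, (y : H) ∈ M ↔ (cj g⁻¹ y : H) ∈ M := fun y => by
          rw [← hχpow _ (Nat.pos_of_ne_zero hc0) c.2 y,
            ← hχpow _ (Nat.pos_of_ne_zero hd) d.2 (cj g⁻¹ y), hgx]
        constructor
        · exact fun hx => (key ⟨x, hMZ hx⟩).1 hx
        · intro hx
          have hxZ : x ∈ Z := by
            simpa [mul_assoc] using hZn.conj_mem _ (hMZ hx) g
          exact (key ⟨x, hxZ⟩).2 hx
      refine ⟨((⟨g, N.inv_mem_iff.1 hgN⟩ : N) : N ⧸ St.subgroupOf N), Finset.mem_univ _, ?_⟩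
      obtain ⟨⟨s, hs⟩, hso⟩ :=
        QuotientGroup.mk_out_eq_mul (St.subgroupOf N) (⟨g, N.inv_mem_iff.1 hgN⟩ : N)
      rw [hso, Subgroup.coe_mul, mul_smul, ← hg]
      congr 1
      refine MonoidHom.ext fun x => ?_
      change χ (cj (s : H)⁻¹ x) ^ (d : ℕ) = χ x ^ (d : ℕ)
      congr 1
      have h1 : χ (cj (s : H)⁻¹ x * x⁻¹) = 1 :=
        (hχ _).2 ((St.inv_mem hs : (s : H)⁻¹ ∈ St) x x.2)
      calc χ (cj (s : H)⁻¹ x) = χ (cj (s : H)⁻¹ x * x⁻¹ * x) := by rw [inv_mul_cancel_right]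
        _ = χ x := by rw [map_mul, h1, one_mul]
    · rw [Finset.card_univ, ← Nat.card_eq_fintype_card]; rfl
  calc p = (Finset.univ : Finset (Fin p)).card := by simp
    _ ≤ St.relIndex N * ((Finset.univ : Finset (Fin p)).image L).card :=
        Finset.card_le_mul_card_image _ _ hfib
    _ ≤ St.relIndex N * Nat.card (ConjClasses H) := by
        gcongr
        exact (Finset.card_le_univ _).trans (horb.trans hoZ)

end Cfsg.Agent.H88.ClassBound
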