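import Mathlib
import Cfsg.Agent.H88.ClassBound.Scalars
import Cfsg.Agent.H88.ClassBound.Field
import Cfsg.Agent.H88.ClassBound.Count

/-!
# Large abelian subgroups: the imprimitive case
-/

set_option autoImplicit false
set_option linter.unusedSectionVars false

namespace Cfsg.Agent.H88.ClassBound

open Cfsg.Agent.H10.BaseThree

/-- The conclusion: a subgroup acting abelianly, of small index. -/
def HasAbelian (W : Type*) {C : Type*} [Group C] [AddCommGroup W] [DistribMulAction C W]
    (z : C) : Prop :=
  ∃ A : Subgroup C, (∀ a ∈ A, ∀ b ∈ A, ∀ w : W, a • b • w = b • a • w) ∧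
    A.index ^ 6 * ringCard W z ^ 2 ≤ Nat.card W ^ 3

universe u v

theorem hasAbelian_of_block {C : Type u} {W : Type v} [Group C] [Finite C] [Group.IsSolvable C]
    [AddCommGroup W] [Finite W] [DistribMulAction C W] (hirr : Irred C W) {z : C}
    (hz : ∀ (g : C) (w : W), g • z • w = z • g • w) (hq : 128 ≤ ringCard W z)
    (ih : ∀ (C' : Type u) (W' : Type v) [Group C'] [Finite C'] [Group.IsSolvable C']
      [AddCommGroup W'] [Finite W'] [DistribMulAction C' W'] (z' : C'),
      Nat.card W' < Nat.card W → Irred C' W' →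
      (∀ (g : C') (w : W'), g • z' • w = z' • g • w) → 128 ≤ ringCard W' z' → HasAbelian W' z')
    {e : AddMonoid.End W} (he : IsBlock C e) (hze : z ∈ blockStab C e) : HasAbelian W z := by
  classical
  haveI := hirr.1
  haveI := Fintype.ofFinite (C ⧸ blockStab C e)
  let M := blockStab C e
  set t := M.index with ht
  have ht2 : 2 ≤ t := by
    have h0 : t ≠ 0 := Subgroup.index_ne_zero_of_finite
    have h1 : t ≠ 1 := fun h => blockStab_ne_top hirr he (Subgroup.index_eq_one.1 h)
    omega
  have hirr0 := irred_blockSpace hirr he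
  haveI := hirr0.1
  set w0 := Nat.card (blockSpace e) with hw0
  -- the sum of translates
  have hw : w0 ^ t ≤ Nat.card W := by
    rw [ht, Subgroup.index_eq_card, hw0, ← Nat.card_fun]
    refine Nat.card_le_card_of_injective
      (fun f : C ⧸ blockStab C e → blockSpace e => ∑ q, q.out • ((f q : blockSpace e) : W))
      fun f f' h => ?_
    have hput : ∀ (f : C ⧸ blockStab C e → blockSpace e) q,
        e (q.out⁻¹ • ∑ q', q'.out • ((f q' : blockSpace e) : W)) = f q := by
      intro f q
      rw [Finset.smul_sum, map_sum, Finset.sum_eq_single q]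
      · rw [inv_smul_smul]; exact (f q).2
      · intro q' _ hne
        have h1 := DFunLike.congr_fun (trans_orth he hne.symm)
          (q'.out • ((f q' : blockSpace e) : W))
        rw [AddMonoid.End.coe_mul, Function.comp_apply, H10.BaseThree.trans, H10.BaseThree.trans, cnj_apply, cnj_apply,
          inv_smul_smul, (f q').2] at h1
        exact (smul_eq_zero_iff_eq _).1 h1
      · simp
    funext q
    apply Subtype.ext
    have h' : ∑ q', q'.out • ((f q' : blockSpace e) : W) =
        ∑ q', q'.out • ((f' q' : blockSpace e) : W) := h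
    rw [← hput f q, ← hput f' q, h']
  have hlt : w0 < Nat.card W := by
    have h2 : 2 ≤ w0 := Finite.one_lt_card
    have h3 : w0 ^ 2 ≤ w0 ^ t := Nat.pow_le_pow_right (by omega) ht2
    nlinarith
  let z0 : M := ⟨z, hze⟩
  have hz0 : ∀ (g : M) (w : blockSpace e), g • z0 • w = z0 • g • w := fun g w =>
    Subtype.ext (hz g w)
  have hqq : ringCard W z ≤ ringCard (blockSpace e) z0 := by
    refine card_closure_le (blockSpace e).subtype (fun w => rfl) fun x hx hx0 => ?_
    obtain ⟨w, hw⟩ := exists_ne (0 : blockSpace e)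
    exact closure_eq_zero hirr hz hx (fun h => hw (Subtype.ext h)) (hx0 w)
  obtain ⟨A₁, hA₁, hbd⟩ := ih M (blockSpace e) z0 hlt hirr0 hz0 (hq.trans hqq)
  have hbd' : A₁.index ^ 6 * ringCard W z ^ 2 ≤ w0 ^ 3 :=
    le_trans (Nat.mul_le_mul_left _ (Nat.pow_le_pow_left hqq 2)) hbd
  let K := M.normalCore
  let J : Subgroup C := A₁.map M.subtype
  let A : C ⧸ M → Subgroup C := fun q => K ⊓ J.map (MulAut.conj q.out).toMonoidHom
  have hA : ∀ q : C ⧸ M, (A q).relIndex K ≤ A₁.index := by
    intro q
    have e' : A q = K ⊓ J.map (MulAut.conj q.out).toMonoidHom := rfl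
    rw [e', Subgroup.inf_relIndex_left]
    have hK : K = K.map (MulAut.conj q.out).toMonoidHom := by
      ext x
      constructor
      · intro hx
        exact ⟨q.out⁻¹ * x * q.out, by
          simpa [mul_assoc] using (Subgroup.normalCore_normal M).conj_mem x hx q.out⁻¹,
          by simp [MulAut.conj_apply, mul_assoc]⟩
      · rintro ⟨y, hy, rfl⟩
        exact (Subgroup.normalCore_normal M).conj_mem y hy q.out
    rw [hK, Subgroup.relIndex_map_map_of_injective J K (MulAut.conj q.out).injective]
    refine le_trans (Subgroup.relIndex_le_of_le_right M.normalCore_le ?_) (le_of_eq ?_)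
    · exact Subgroup.index_ne_zero_of_finite
    · show J.relIndex M = _
      simp only [Subgroup.relIndex, Subgroup.subgroupOf, J,
        Subgroup.comap_map_eq_self_of_injective (Subgroup.subtype_injective M)]
  refine ⟨⨅ q, A q, fun a ha b hb w => ?_, ?_⟩
  · rw [Subgroup.mem_iInf] at ha hb
    rw [← sum_trans hirr he w]
    simp only [Finset.smul_sum]
    refine Finset.sum_congr rfl fun q _ => ?_
    obtain ⟨_, ⟨a', ha', rfl⟩, hae⟩ := (Subgroup.mem_inf.1 (ha q)).2
    obtain ⟨_, ⟨b', hb', rfl⟩, hbe⟩ := (Subgroup.mem_inf.1 (hb q)).2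
    simp only [MulEquiv.coe_toMonoidHom, MulAut.conj_apply, Subgroup.coe_subtype] at hae hbe
    rw [← hae, ← hbe, H10.BaseThree.trans, cnj_apply]
    have hw' : e (q.out⁻¹ • w) ∈ blockSpace e := DFunLike.congr_fun he.idem _
    have key : (a' : C) • (b' : C) • e (q.out⁻¹ • w) = (b' : C) • (a' : C) • e (q.out⁻¹ • w) :=
      congrArg Subtype.val (hA₁ a' ha' b' hb' ⟨_, hw'⟩)
    simp only [mul_smul, inv_smul_smul, key]
  · have hcore := index_ker_le M.index C M le_rfl
    rw [← Subgroup.index_eq_card] at hcore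
    have hidx : (⨅ q, A q).index ≤ 3 ^ (t - 1) * A₁.index ^ t := by
      calc (⨅ q, A q).index = (⨅ q, A q).relIndex K * K.index :=
            (Subgroup.relIndex_mul_index ((iInf_le A ((1 : C) : C ⧸ M)).trans inf_le_left)).symm
        _ ≤ A₁.index ^ t * 3 ^ (t - 1) := by
            refine Nat.mul_le_mul ((Subgroup.relIndex_iInf_le _).trans ?_) hcore
            refine (Finset.prod_le_prod' fun q _ => hA q).trans (le_of_eq ?_)
            rw [Finset.prod_const, Finset.card_univ, ← Nat.card_eq_fintype_card,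
              ← Subgroup.index_eq_card, ht]
        _ = _ := mul_comm _ _
    calc (⨅ q, A q).index ^ 6 * ringCard W z ^ 2
        ≤ (3 ^ (t - 1) * A₁.index ^ t) ^ 6 * ringCard W z ^ 2 := by gcongr
      _ ≤ (w0 ^ t) ^ 3 := block_arith hq (le_trans one_le_two ht2) hbd'
      _ ≤ Nat.card W ^ 3 := Nat.pow_le_pow_left hw 3

end Cfsg.Agent.H88.ClassBound
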