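import Mathlib
import Cfsg.Agent.H30.ClassFit.Alt

/-!
# Isometries of a nondegenerate alternating pairing of squarefree exponent
-/

set_option autoImplicit false
set_option linter.unusedSectionVars false

namespace Cfsg.Agent.H88.ClassBound

open Cfsg.Agent.H30.ClassFit

universe u w

theorem pow_eight_le {m : ℕ} (hm : 3 ≤ m) : (2 * m) ^ 8 ≤ 2 ^ (7 * m) := by
  induction m, hm using Nat.le_induction with
  | base => norm_num
  | succ m hm ih =>
    have h1 : (3 * (2 * (m + 1))) ^ 8 ≤ (4 * (2 * m)) ^ 8 := Nat.pow_le_pow_left (by omega) 8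
    rw [mul_pow, mul_pow 4] at h1
    rw [show 7 * (m + 1) = 7 * m + 7 by ring, pow_add]
    norm_num at h1 ⊢
    omega

theorem step_le {s e : ℕ} (hs : 2 ≤ s) (he : 1 ≤ e) (h : 3 ≤ s * e) (h4 : s * e ≠ 4) :
    (s * e) ^ 24 ≤ 2 ^ (21 * (e * (s - 1))) := by
  have key : (s * e) ^ 8 ≤ 2 ^ (7 * (e * (s - 1))) := by
    obtain ⟨r, rfl⟩ : ∃ r, s = r + 1 := ⟨s - 1, by omega⟩
    rw [Nat.add_sub_cancel]
    rcases Nat.lt_or_ge (e * r) 3 with hlt | hge
    · have he3 : e < 3 := lt_of_le_of_lt (Nat.le_mul_of_pos_right e (by omega)) hlt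
      have hr3 : r < 3 := lt_of_le_of_lt (Nat.le_mul_of_pos_left r (by omega)) hlt
      interval_cases e <;> interval_cases r <;> simp_all
    · refine le_trans (Nat.pow_le_pow_left ?_ 8) (pow_eight_le hge)
      have : e ≤ e * r := Nat.le_mul_of_pos_right e (by omega)
      calc (r + 1) * e = e * r + e := by ring
        _ ≤ 2 * (e * r) := by omega
  calc (s * e) ^ 24 = ((s * e) ^ 8) ^ 3 := by rw [← pow_mul]
    _ ≤ (2 ^ (7 * (e * (s - 1)))) ^ 3 := Nat.pow_le_pow_left key 3
    _ = 2 ^ (21 * (e * (s - 1))) := by rw [← pow_mul]; congr 1; ring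

/-- What the recursion carries. -/
def IsoBound (e m : ℕ) : Prop :=
  (e = 1 → m = 1) ∧ (e = 2 → m ≤ 6) ∧ (e = 4 → m ≤ 720) ∧
    (e * m) ^ 6 * 2 ^ 14 ≤ 2 ^ (21 * e)

theorem isoBound_step {s e m M : ℕ} (hs : s.Prime) (he : 1 ≤ e) (hm : IsoBound e m)
    (hM : M * s ≤ ((s * e) ^ 2 - 1) * (s * e) ^ 2 * m) : IsoBound (s * e) M := by
  obtain ⟨h1, h2, h4, hbd⟩ := hm
  have hs2 := hs.two_le
  have hge : 2 ≤ s * e := le_trans hs2 (Nat.le_mul_of_pos_right s he)
  rcases eq_or_ne (s * e) 2 with he2 | hne2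
  · have hs' : s = 2 := by
      have : s ≤ 2 := he2 ▸ Nat.le_mul_of_pos_right s he
      omega
    subst hs'
    obtain rfl : e = 1 := by omega
    rw [h1 rfl] at hM
    norm_num at hM
    refine ⟨fun h => by omega, fun _ => by omega, fun h => by omega, ?_⟩
    have : M ≤ 6 := by omega
    calc (2 * 1 * M) ^ 6 * 2 ^ 14 ≤ (2 * 1 * 6) ^ 6 * 2 ^ 14 := by gcongr
      _ ≤ 2 ^ (21 * (2 * 1)) := by norm_num
  rcases eq_or_ne (s * e) 4 with he4 | hne4
  · have hs' : s = 2 := by
      have : s ≤ 4 := he4 ▸ Nat.le_mul_of_pos_right s he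
      interval_cases s
      · rfl
      · omega
      · exact absurd hs (by norm_num)
    subst hs'
    obtain rfl : e = 2 := by omega
    have := h2 rfl
    norm_num at hM
    have hM' : M ≤ 720 := by omega
    refine ⟨fun h => by omega, fun h => by omega, fun _ => hM', ?_⟩
    calc (2 * 2 * M) ^ 6 * 2 ^ 14 ≤ (2 * 2 * 720) ^ 6 * 2 ^ 14 := by gcongr
      _ ≤ 2 ^ (21 * (2 * 2)) := by norm_num
  refine ⟨fun h => by omega, fun h => absurd h hne2, fun h => absurd h hne4, ?_⟩
  have hstep := step_le hs2 he (by omega) hne4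
  have hX : s * e * M ≤ (s * e) ^ 4 * (e * m) := by
    have : s * e * M = e * (M * s) := by ring
    rw [this]
    refine le_trans (Nat.mul_le_mul_left e (hM.trans (Nat.mul_le_mul_right m
      (Nat.mul_le_mul_right _ (Nat.sub_le _ 1))))) (le_of_eq ?_)
    ring
  calc (s * e * M) ^ 6 * 2 ^ 14 ≤ ((s * e) ^ 4 * (e * m)) ^ 6 * 2 ^ 14 := by gcongr
    _ = (s * e) ^ 24 * ((e * m) ^ 6 * 2 ^ 14) := by ring
    _ ≤ 2 ^ (21 * (e * (s - 1))) * 2 ^ (21 * e) := Nat.mul_le_mul hstep hbd
    _ = 2 ^ (21 * (s * e)) := by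
        rw [← pow_add]; congr 1
        obtain ⟨r, rfl⟩ : ∃ r, s = r + 1 := ⟨s - 1, by omega⟩
        rw [Nat.add_sub_cancel]; ring

theorem exists_iso_bound : ∀ (n : ℕ) (V : Type u) [AddCommGroup V] [Finite V] (U : Type w)
    [Group U] [DistribMulAction U V] (B : Alt V), Nat.card V = n → B.Nondeg →
    (∀ (g : U) (a b : V), B.f (g • a) (g • b) = B.f a b) →
    (∀ g : U, (∀ v : V, g • v = v) → g = 1) → (∃ R : ℕ, Squarefree R ∧ ∀ v : V, R • v = 0) →
    ∃ e, Nat.card V = e ^ 2 ∧ IsoBound e (Nat.card U) := by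
  intro n
  induction n using Nat.strong_induction_on with
  | _ n ih =>
    intro V _ _ U _ _ B hn hB hiso hfaith hexp
    classical
    have hinj : Function.Injective (fun (g : U) (v : V) => g • v) := fun g g' h => by
      refine inv_mul_eq_one.1 (hfaith _ fun v => ?_)
      rw [mul_smul, inv_smul_eq_iff]
      exact (congrFun h v).symm
    haveI : Finite U := Finite.of_injective _ hinj
    rcases subsingleton_or_nontrivial V with hs | hnt
    · refine ⟨1, by rw [Nat.card_of_subsingleton (0 : V)]; rfl, ?_⟩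
      have : Nat.card U = 1 := by
        haveI : Subsingleton U :=
          ⟨fun g g' => hinj (funext fun v => Subsingleton.elim _ _)⟩
        exact Nat.card_of_subsingleton 1
      refine ⟨fun _ => this, fun h => by omega, fun h => by omega, ?_⟩
      rw [this]; norm_num
    obtain ⟨R, hR, hRV⟩ := hexp
    obtain ⟨s, hs, hsd⟩ := Nat.exists_prime_and_dvd (Finite.one_lt_card (α := V)).ne'
    haveI := Fact.mk hs
    obtain ⟨u₀, hu₀⟩ := exists_prime_addOrderOf_dvd_card' (G := V) s hsd
    have hu₀s : s • u₀ = 0 := hu₀ ▸ addOrderOf_nsmul_eq_zero u₀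
    have hsR : s ∣ R := hu₀ ▸ addOrderOf_dvd_of_nsmul_eq_zero (hRV u₀)
    obtain ⟨r, hr⟩ := hsR
    have hcop : Nat.Coprime s r := hr ▸ hR |> Nat.coprime_of_squarefree_mul
    have hu₀0 : u₀ ≠ 0 := fun h => hs.ne_one (by rw [← hu₀, h, addOrderOf_zero])
    obtain ⟨v₁, hv₁⟩ : ∃ v, B.f u₀ v ≠ 1 := by
      by_contra hc
      push Not at hc
      exact hu₀0 (hB u₀ hc)
    have hc₁ : B.f u₀ v₁ ^ s = 1 := by rw [← B.nsmul_left, hu₀s, B.zero_left]
    let v₀ := r • v₁
    have hv₀s : s • v₀ = 0 := by rw [← mul_nsmul', ← hr]; exact hRV v₁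
    have hc : B.f u₀ v₀ ≠ 1 := fun h => hv₁ (by
      rw [B.nsmul_right] at h
      have h1 := pow_gcd_eq_one.2 ⟨hc₁, h⟩
      rwa [hcop, pow_one] at h1)
    let P : AddSubgroup V := AddSubgroup.zmultiples u₀ ⊔ AddSubgroup.zmultiples v₀
    have hord : ∀ {x : ℂ}, x ^ s = 1 → x ≠ 1 → orderOf x = s := fun h h' => orderOf_eq_prime h h'
    have hpuv : B.f u₀ v₀ ^ s = 1 := by rw [← B.nsmul_left, hu₀s, B.zero_left]
    have hpvu : B.f v₀ u₀ ^ s = 1 := by rw [← B.nsmul_left, hv₀s, B.zero_left]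
    have hvu1 : B.f v₀ u₀ ≠ 1 := fun h => hc (B.swap_eq_one h)
    have hred : ∀ {w : V}, s • w = 0 → ∀ k : ℤ, ∃ m : ℕ, m < s ∧ k • w = m • w := by
      intro w hw k
      have hpos : (0 : ℤ) < s := by exact_mod_cast hs.pos
      refine ⟨(k % s).toNat, (Int.toNat_lt (Int.emod_nonneg k hpos.ne')).2
        (Int.emod_lt_of_pos k hpos), ?_⟩
      rw [← natCast_zsmul, Int.toNat_of_nonneg (Int.emod_nonneg k hpos.ne')]
      conv_lhs => rw [← Int.emod_add_mul_ediv k s, add_zsmul, mul_comm, mul_zsmul, natCast_zsmul,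
        hw, smul_zero, add_zero]
    have hmemP : ∀ x ∈ P, ∃ i < s, ∃ j < s, x = i • u₀ + j • v₀ := by
      intro x hx
      obtain ⟨y, hy, z, hz, rfl⟩ := AddSubgroup.mem_sup.1 hx
      obtain ⟨i, rfl⟩ := AddSubgroup.mem_zmultiples_iff.1 hy
      obtain ⟨j, rfl⟩ := AddSubgroup.mem_zmultiples_iff.1 hz
      obtain ⟨m, hm, hmi⟩ := hred hu₀s i
      obtain ⟨m', hm', hmj⟩ := hred hv₀s j
      exact ⟨m, hm, m', hm', by rw [hmi, hmj]⟩
    have hzero : ∀ i < s, ∀ j < s, B.f (i • u₀ + j • v₀) v₀ = 1 →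
        B.f (i • u₀ + j • v₀) u₀ = 1 → i = 0 ∧ j = 0 := by
      intro i hi j hj h1 h2
      rw [B.add_left, B.nsmul_left, B.nsmul_left, B.self, one_pow, mul_one] at h1
      rw [B.add_left, B.nsmul_left, B.nsmul_left, B.self, one_pow, one_mul] at h2
      exact ⟨Nat.eq_zero_of_dvd_of_lt (hord hpuv hc ▸ orderOf_dvd_of_pow_eq_one h1) hi,
        Nat.eq_zero_of_dvd_of_lt (hord hpvu hvu1 ▸ orderOf_dvd_of_pow_eq_one h2) hj⟩
    have hu₀P : u₀ ∈ P := AddSubgroup.mem_sup_left (AddSubgroup.mem_zmultiples u₀)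
    have hv₀P : v₀ ∈ P := AddSubgroup.mem_sup_right (AddSubgroup.mem_zmultiples v₀)
    have hPnd : B.NondegOn P := by
      rw [Alt.NondegOn, eq_bot_iff]
      rintro x ⟨hx, hxP⟩
      obtain ⟨i, hi, j, hj, rfl⟩ := hmemP x hx
      obtain ⟨rfl, rfl⟩ := hzero i hi j hj (hxP v₀ hv₀P) (hxP u₀ hu₀P)
      simp
    have hPcard : Nat.card P = s * s := by
      let g : Fin s × Fin s → P := fun x => ⟨(x.1 : ℕ) • u₀ + (x.2 : ℕ) • v₀,
        P.add_mem (P.nsmul_mem hu₀P _) (P.nsmul_mem hv₀P _)⟩
      have hg : Function.Bijective g := by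
        constructor
        · rintro ⟨i, j⟩ ⟨i', j'⟩ h
          have h' : (i : ℕ) • u₀ + (j : ℕ) • v₀ = (i' : ℕ) • u₀ + (j' : ℕ) • v₀ :=
            congrArg Subtype.val h
          have e1 : B.f u₀ v₀ ^ (i : ℕ) = B.f u₀ v₀ ^ (i' : ℕ) := by
            have := congrArg (fun x => B.f x v₀) h'
            simpa [B.add_left, B.nsmul_left, B.self] using this
          have e2 : B.f v₀ u₀ ^ (j : ℕ) = B.f v₀ u₀ ^ (j' : ℕ) := by
            have := congrArg (fun x => B.f x u₀) h'
            simpa [B.add_left, B.nsmul_left, B.self] using this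
          refine Prod.ext (Fin.ext (pow_injOn_Iio_orderOf ?_ ?_ e1))
            (Fin.ext (pow_injOn_Iio_orderOf ?_ ?_ e2))
          · rw [hord hpuv hc]; exact i.2
          · rw [hord hpuv hc]; exact i'.2
          · rw [hord hpvu hvu1]; exact j.2
          · rw [hord hpvu hvu1]; exact j'.2
        · rintro ⟨x, hx⟩
          obtain ⟨i, hi, j, hj, rfl⟩ := hmemP x hx
          exact ⟨(⟨i, hi⟩, ⟨j, hj⟩), rfl⟩
      rw [← Nat.card_eq_of_bijective g hg, Nat.card_prod, Nat.card_fin]
    let V' : AddSubgroup V := B.perp (P : Set V)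
    have hcard := Alt.card_mul_card_perp hB P
    have hlt : Nat.card V' < n := by
      rw [← hn, ← hcard, hPcard]
      refine lt_mul_of_one_lt_left Nat.card_pos ?_
      have := hs.two_le
      nlinarith
    -- the stabiliser of the pair
    let U' : Subgroup U := MulAction.stabilizer U (u₀, v₀)
    have hfixP : ∀ g ∈ U', ∀ x ∈ P, g • x = x := by
      intro g hg x hx
      obtain ⟨i, hi, j, hj, rfl⟩ := hmemP x hx
      have hg' : (g • u₀, g • v₀) = (u₀, v₀) := hg
      rw [smul_add, smul_comm g i, smul_comm g j, (Prod.mk.inj hg').1, (Prod.mk.inj hg').2]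
    have hV' : ∀ (g : U') (x : V'), (g : U) • (x : V) ∈ V' := by
      intro g x p hp
      rw [← hfixP g g.2 p hp, hiso]
      exact x.2 p hp
    letI : DistribMulAction U' V' :=
      { smul := fun g x => ⟨(g : U) • (x : V), hV' g x⟩
        one_smul := fun x => Subtype.ext (one_smul U (x : V))
        mul_smul := fun g h x => Subtype.ext (mul_smul (g : U) (h : U) (x : V))
        smul_zero := fun g => Subtype.ext (smul_zero (g : U))
        smul_add := fun g a b => Subtype.ext (smul_add (g : U) (a : V) (b : V)) }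
    have htop := Alt.sup_perp_eq_top hB hPnd
    obtain ⟨e, he, hbd⟩ := ih _ hlt V' U' (B.restrict V') rfl
      (B.restrict_nondeg (Alt.nondegOn_perp hB hPnd)) (fun g a b => hiso g a b)
      (fun g hg => by
        refine Subtype.ext (hfaith g fun v => ?_)
        obtain ⟨p, hp, q, hq, rfl⟩ := AddSubgroup.mem_sup.1 (htop ▸ AddSubgroup.mem_top v)
        rw [smul_add, hfixP g g.2 p hp]
        congr 1
        exact congrArg Subtype.val (hg ⟨q, hq⟩))
      ⟨R, hR, fun v => Subtype.ext (hRV v)⟩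
    have hV : Nat.card V = (s * e) ^ 2 := by rw [← hcard, hPcard, he]; ring
    refine ⟨s * e, hV, isoBound_step hs ?_ hbd ?_⟩
    · rcases Nat.eq_zero_or_pos e with rfl | h
      · exact absurd he Nat.card_pos.ne'
      · exact h
    rw [← Subgroup.card_mul_index U', MulAction.index_stabilizer, ← hV]
    -- counting the pairs
    haveI := Fintype.ofFinite V
    let S : Finset (V × V) := Finset.univ.filter fun x =>
      x.1 ≠ 0 ∧ s • x.1 = 0 ∧ B.f x.1 x.2 = B.f u₀ v₀
    have horb : (MulAction.orbit U (u₀, v₀)).ncard ≤ S.card := by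
      rw [← Set.ncard_coe_finset]
      refine Set.ncard_le_ncard ?_ S.finite_toSet
      rintro _ ⟨g, rfl⟩
      simp only [S, Finset.coe_filter, Finset.mem_univ, true_and, Set.mem_setOf_eq]
      exact ⟨fun h => hu₀0 ((smul_eq_zero_iff_eq g).1 h),
        by rw [Prod.smul_fst, smul_comm s g, hu₀s, smul_zero], hiso g u₀ v₀⟩
    have hS : S.card * s ≤ (Nat.card V - 1) * Nat.card V := by
      have himg : (S.image Prod.fst).card ≤ Nat.card V - 1 := by
        rw [Nat.card_eq_fintype_card, ← Finset.card_univ,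
          ← Finset.card_erase_of_mem (Finset.mem_univ (0 : V))]
        refine Finset.card_le_card fun a ha => ?_
        obtain ⟨x, hx, rfl⟩ := Finset.mem_image.1 ha
        simp only [S, Finset.mem_filter] at hx
        exact Finset.mem_erase.2 ⟨hx.2.1, Finset.mem_univ _⟩
      have hfib : ∀ a ∈ S.image Prod.fst,
          (S.filter fun x => x.1 = a).card ≤ Nat.card V / s := by
        intro a ha
        obtain ⟨x, hx, rfl⟩ := Finset.mem_image.1 ha
        simp only [S, Finset.mem_filter, Finset.mem_univ, true_and] at hx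
        rw [Nat.le_div_iff_mul_le hs.pos, mul_comm]
        have hord' : Nat.card (AddSubgroup.zmultiples x.1) = s := by
          rw [Nat.card_zmultiples]
          exact addOrderOf_eq_prime hx.2.1 hx.1
        rw [← Alt.card_mul_card_perp hB (AddSubgroup.zmultiples x.1), hord']
        refine Nat.mul_le_mul_left s ?_
        rw [← Nat.card_eq_finsetCard]
        refine Nat.card_le_card_of_injective (fun y => (⟨(y : V × V).2 - x.2, ?_⟩ :
          B.perp (AddSubgroup.zmultiples x.1 : Set V))) ?_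
        · intro u hu
          refine B.swap_eq_one ?_
          obtain ⟨k, rfl⟩ := AddSubgroup.mem_zmultiples_iff.1 hu
          obtain ⟨m, hm, hmk⟩ := hred hx.2.1 k
          rw [hmk, B.nsmul_left]
          have hy := (Finset.mem_filter.1 y.2)
          have hy2 := (Finset.mem_filter.1 hy.1).2.2.2
          rw [hy.2] at hy2
          have h1 : B.f x.1 ((y : V × V).2 - x.2) * B.f x.1 x.2 = B.f x.1 (y : V × V).2 := by
            rw [← B.add_right, sub_add_cancel]
          rw [hy2, ← hx.2.2] at h1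
          rw [mul_left_eq_self₀.1 h1 |>.resolve_right (B.ne_zero _ _), one_pow]
        · intro y y' h
          refine Subtype.ext (Prod.ext ?_ (sub_left_injective (congrArg Subtype.val h)))
          rw [(Finset.mem_filter.1 y.2).2, (Finset.mem_filter.1 y'.2).2]
      calc S.card * s ≤ Nat.card V / s * (S.image Prod.fst).card * s :=
            Nat.mul_le_mul_right _ (Finset.card_le_mul_card_image S _ hfib)
        _ ≤ Nat.card V / s * (Nat.card V - 1) * s := by gcongr
        _ = (Nat.card V - 1) * (Nat.card V / s * s) := by ring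
        _ ≤ (Nat.card V - 1) * Nat.card V := by
            gcongr
            exact Nat.div_mul_le_self _ _
    calc Nat.card U' * (MulAction.orbit U (u₀, v₀)).ncard * s
        ≤ Nat.card U' * (S.card * s) := by rw [mul_assoc]; gcongr
      _ ≤ Nat.card U' * ((Nat.card V - 1) * Nat.card V) := by gcongr
      _ = _ := by ring

/-- Isometries of a nondegenerate alternating pairing of squarefree exponent. -/
theorem iso_bound {V : Type u} [AddCommGroup V] [Finite V] {U : Type w} [Group U]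
    [DistribMulAction U V] (B : Alt V) (hB : B.Nondeg)
    (hiso : ∀ (g : U) (a b : V), B.f (g • a) (g • b) = B.f a b)
    (hfaith : ∀ g : U, (∀ v : V, g • v = v) → g = 1)
    (hexp : ∃ R : ℕ, Squarefree R ∧ ∀ v : V, R • v = 0) :
    ∃ e, Nat.card V = e ^ 2 ∧ (e * Nat.card U) ^ 6 * 2 ^ 14 ≤ 2 ^ (21 * e) := by
  obtain ⟨e, he, hb⟩ := exists_iso_bound _ V U B rfl hB hiso hfaith hexp
  exact ⟨e, he, hb.2.2.2⟩

/-- A maximal totally isotropic subgroup. -/
theorem exists_isotropic {V : Type u} [AddCommGroup V] [Finite V] {B : Alt V} (hB : B.Nondeg) :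
    ∃ L : AddSubgroup V, (∀ a ∈ L, ∀ b ∈ L, B.f a b = 1) ∧ Nat.card L ^ 2 = Nat.card V := by
  let F : Set (AddSubgroup V) := {L | L ≤ B.perp (L : Set V)}
  obtain ⟨L, -, hL⟩ := (Set.toFinite F).exists_le_maximal
    (show (⊥ : AddSubgroup V) ∈ F from Set.mem_setOf.2 bot_le)
  have heq : B.perp (L : Set V) = L := by
    refine le_antisymm (fun w hw => ?_) hL.prop
    refine hL.2 (y := L ⊔ AddSubgroup.zmultiples w) ?_ le_sup_left
      (AddSubgroup.mem_sup_right (AddSubgroup.mem_zmultiples w))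
    show L ⊔ AddSubgroup.zmultiples w ≤ B.perp _
    have hperp : ∀ u ∈ L ⊔ AddSubgroup.zmultiples w,
        L ⊔ AddSubgroup.zmultiples w ≤ B.perp {u} := by
      have key : ∀ a, (a ∈ L ∨ a = w) → ∀ u ∈ L ⊔ AddSubgroup.zmultiples w, B.f u a = 1 := by
        intro a ha u hu
        have : L ⊔ AddSubgroup.zmultiples w ≤ B.perp {a} := by
          refine sup_le (fun l hl c hc => ?_) (AddSubgroup.zmultiples_le.2 fun c hc => ?_)
          · rw [Set.mem_singleton_iff.1 hc]
            rcases ha with ha | rfl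
            · exact hL.prop hl a ha
            · exact B.swap_eq_one (hw l hl)
          · rw [Set.mem_singleton_iff.1 hc]
            rcases ha with ha | rfl
            · exact hw a ha
            · exact B.self a
        exact this hu a rfl
      intro u hu
      refine sup_le (fun l hl c hc => ?_) (AddSubgroup.zmultiples_le.2 fun c hc => ?_)
      · rw [Set.mem_singleton_iff.1 hc]
        exact B.swap_eq_one (key l (Or.inl hl) u hu)
      · rw [Set.mem_singleton_iff.1 hc]
        exact B.swap_eq_one (key w (Or.inr rfl) u hu)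
    intro x hx u hu
    exact hperp u hu hx u rfl
  refine ⟨L, fun a ha b hb => hL.prop ha b hb, ?_⟩
  have := Alt.card_mul_card_perp hB L
  rw [heq] at this
  rw [sq, this]

end Cfsg.Agent.H88.ClassBound
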