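import Mathlib
import Cfsg.Agent.H88.ClassBound.GoodBlock
import Cfsg.Agent.H88.ClassBound.Pairing

/-!
# Large abelian subgroups: no block among the scalars
-/

set_option autoImplicit false
set_option linter.unusedSectionVars false

namespace Cfsg.Agent.H88.ClassBound

open Cfsg.Agent.H10.BaseThree Cfsg.Agent.H30.ClassFit
open scoped commutatorElement

universe u v

theorem hasAbelian_of_no_block {C : Type u} {W : Type v} [Group C] [Finite C] [Group.IsSolvable C]
    [AddCommGroup W] [Finite W] [DistribMulAction C W] (hirr : Irred C W)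
    (hfaith : ∀ g : C, (∀ w : W, g • w = w) → g = 1) {z : C} (hq : 128 ≤ ringCard W z)
    {T : Subgroup C} [hTn : T.Normal] (hTc : ∀ a ∈ T, ∀ b ∈ T, a * b = b * a)
    (hTmax : ∀ A : Subgroup C, A.Normal → T ≤ A → (∀ a ∈ A, ∀ b ∈ A, a * b = b * a) → A ≤ T)
    (hzT : z ∈ T) (hzc : ∀ g : C, g * z = z * g)
    (hnb : ∀ e ∈ scalars W T, ¬ IsBlock C e) : HasAbelian W z := by
  classical
  haveI := hirr.1
  let K := scalars W T
  letI iC : CommRing K :=
    { (inferInstance : Ring K) with
      mul_comm := fun x y => Subtype.ext (scalars_comm hTc x.2 y.2) }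
  haveI : Nontrivial K := ⟨⟨0, 1, fun h => by
    obtain ⟨v, hv⟩ := exists_ne (0 : W)
    exact hv (DFunLike.congr_fun (congrArg Subtype.val h) v).symm⟩⟩
  haveI : NoZeroDivisors K := ⟨fun {x y} h => by
    by_contra hc
    push Not at hc
    refine hc.2 (Subtype.ext (AddMonoidHom.ext fun u => ?_))
    exact scalars_injective_of_no_block hirr hnb hTc x.2 (fun h0 => hc.1 (Subtype.ext h0))
      (DFunLike.congr_fun (congrArg Subtype.val h) u)⟩
  haveI : IsDomain K := NoZeroDivisors.to_isDomain K
  haveI : Finite K := Subtype.finite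
  letI : Fintype K := Fintype.ofFinite K
  letI : Field K := Fintype.fieldOfDomain K
  let f : T →* K := toScalar W T
  have hf : Function.Injective f := (injective_iff_map_eq_one f).2 fun t ht => Subtype.ext <|
    hfaith t fun u => DFunLike.congr_fun (congrArg Subtype.val ht) u
  have hsmul : ∀ (x : K) (w : W), x • w = (x : AddMonoid.End W) w := fun _ _ => rfl
  let zK : K := f ⟨z, hzT⟩
  have hq_eq : Nat.card (Subring.closure ({zK} : Set K)) = ringCard W z := by
    have h1 : (Subring.closure ({zK} : Set K)).map K.subtype =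
        Subring.closure ({DistribMulAction.toAddMonoidEnd C W z} : Set (AddMonoid.End W)) := by
      rw [RingHom.map_closure, Set.image_singleton]
      rfl
    rw [ringCard, ← h1]
    exact Nat.card_congr
      ((Subring.closure ({zK} : Set K)).equivMapOfInjective K.subtype Subtype.val_injective).toEquiv
  obtain ⟨b, hb1, hKcard, hauts⟩ := field_data zK
  rw [hq_eq] at hKcard
  set n := Module.finrank K W with hn_def
  have hWcard : Nat.card W = Nat.card K ^ n := Module.natCard_eq_pow_finrank
  have hn1 : 1 ≤ n := Module.finrank_pos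
  -- conjugation of the scalars
  let σ : C →* RingAut K :=
    { toFun := fun g =>
        { toFun := fun x => ⟨cnj g x, cnj_mem_scalars x.2 g⟩
          invFun := fun x => ⟨cnj g⁻¹ x, cnj_mem_scalars x.2 g⁻¹⟩
          left_inv := fun x => Subtype.ext (by
            change cnj g⁻¹ (cnj g (x : AddMonoid.End W)) = x
            rw [← cnj_mul, inv_mul_cancel, cnj_one])
          right_inv := fun x => Subtype.ext (by
            change cnj g (cnj g⁻¹ (x : AddMonoid.End W)) = x
            rw [← cnj_mul, mul_inv_cancel, cnj_one])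
          map_mul' := fun x y => Subtype.ext (cnj_map_mul g _ _)
          map_add' := fun x y => Subtype.ext (AddMonoidHom.ext fun v =>
            smul_add g ((x : AddMonoid.End W) (g⁻¹ • v)) ((y : AddMonoid.End W) (g⁻¹ • v))) }
      map_one' := RingEquiv.ext fun x => Subtype.ext (cnj_one _)
      map_mul' := fun g h => RingEquiv.ext fun x => Subtype.ext (cnj_mul g h _) }
  have hσ : ∀ g (t : T), σ g (f t) = f ⟨g * t * g⁻¹, hTn.conj_mem t t.2 g⟩ :=
    fun g t => Subtype.ext (AddMonoidHom.ext fun w => by
      change g • (t : C) • g⁻¹ • w = (g * (t : C) * g⁻¹) • w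
      rw [mul_smul, mul_smul])
  haveI : Finite (RingAut K) := Finite.of_injective (fun τ => (τ : K → K)) DFunLike.coe_injective
  let D : Subgroup C := σ.ker
  have hDc : ∀ g ∈ D, ∀ t ∈ T, g * t = t * g := by
    intro g hg t ht
    have h1 : σ g (f ⟨t, ht⟩) = f ⟨t, ht⟩ := by
      rw [show σ g = 1 from hg]; rfl
    rw [hσ] at h1
    have h2 := congrArg Subtype.val (hf h1)
    simp only at h2
    calc g * t = g * t * g⁻¹ * g := by group
      _ = t * g := by rw [h2]
  have hDmem : ∀ g, (∀ t ∈ T, g * t = t * g) → g ∈ D := by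
    intro g hg
    rw [MonoidHom.mem_ker]
    refine RingEquiv.ext fun x => Subtype.ext ?_
    change cnj g (x : AddMonoid.End W) = x
    obtain ⟨x, hx⟩ := x
    induction hx using Subring.closure_induction with
    | mem y hy =>
      obtain ⟨t, ht, rfl⟩ := hy
      refine AddMonoidHom.ext fun w => ?_
      change g • t • g⁻¹ • w = t • w
      rw [← mul_smul, ← mul_smul, hg t ht, mul_inv_cancel_right]
    | zero => exact cnj_map_zero g
    | one => refine AddMonoidHom.ext fun w => ?_; exact smul_inv_smul g w
    | add a c _ _ ha hc =>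
      refine AddMonoidHom.ext fun w => ?_
      change g • (a (g⁻¹ • w) + c (g⁻¹ • w)) = a w + c w
      rw [smul_add]
      exact congrArg₂ (· + ·) (DFunLike.congr_fun ha w) (DFunLike.congr_fun hc w)
    | neg a _ ha =>
      refine AddMonoidHom.ext fun w => ?_
      change g • (-a (g⁻¹ • w)) = -a w
      rw [smul_neg]
      exact congrArg Neg.neg (DFunLike.congr_fun ha w)
    | mul a c _ _ ha hc => rw [cnj_map_mul, ha, hc]
  have hDidx : D.index ≤ b := by
    refine le_trans ?_ hauts
    rw [show D.index = Nat.card σ.range from Subgroup.index_ker σ]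
    refine Nat.card_le_card_of_injective (fun s => (⟨(s : RingAut K), ?_⟩ :
      {s : RingAut K // s zK = zK})) (fun s s' h => Subtype.ext (congrArg Subtype.val h :))
    obtain ⟨g, hg⟩ := s.2
    rw [← hg, hσ]
    refine congrArg f (Subtype.ext ?_)
    change g * z * g⁻¹ = z
    rw [hzc g, mul_inv_cancel_right]
  have hscal : ∀ g ∈ D, ∀ (x : K) (w : W), g • x • w = x • g • w := by
    intro g hg x w
    have h1 : σ g x = x := by rw [show σ g = 1 from hg]; rfl
    have h2 := DFunLike.congr_fun (congrArg Subtype.val h1) (g • w)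
    change g • (x : AddMonoid.End W) (g⁻¹ • g • w) = (x : AddMonoid.End W) (g • w) at h2
    rw [inv_smul_smul] at h2
    exact h2
  -- the layer
  obtain ⟨B, hBn, hTB, hcentral, hBcomm, hcentre, ⟨R, hR, hRB⟩, hCB⟩ := exists_layer hTc hTmax
  haveI := hBn
  have hBD : B ≤ D := fun g hg => hDmem g fun t ht => (hcentral t ht g hg).symm
  have hcc : ∀ x ∈ B, ∀ y ∈ B, ∀ c ∈ B, ⁅x, y⁆ * c = c * ⁅x, y⁆ :=
    fun x hx y hy c hc => hcentral _ (hBcomm x hx y hy) c hc
  have hml : ∀ x ∈ B, ∀ y ∈ B, ∀ w ∈ B, ⁅x * y, w⁆ = ⁅x, w⁆ * ⁅y, w⁆ := by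
    intro x hx y hy w hw
    have h1 : ⁅x * y, w⁆ = x * ⁅y, w⁆ * x⁻¹ * ⁅x, w⁆ := by
      simp only [commutatorElement_def]; group
    rw [h1, ← hcc y hy w hw x hx, mul_inv_cancel_right,
      hcc y hy w hw _ (hTB (hBcomm x hx w hw))]
  have hmr : ∀ x ∈ B, ∀ y ∈ B, ∀ w ∈ B, ⁅x, y * w⁆ = ⁅x, y⁆ * ⁅x, w⁆ := by
    intro x hx y hy w hw
    rw [← commutatorElement_inv, hml y hy w hw x hx, mul_inv_rev, commutatorElement_inv,
      commutatorElement_inv, hcc x hx w hw _ (hTB (hBcomm x hx y hy))]
  have hTone : ∀ t ∈ T, ∀ y ∈ B, ⁅t, y⁆ = 1 ∧ ⁅y, t⁆ = 1 := fun t ht y hy =>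
    ⟨commutatorElement_eq_one_iff_mul_comm.2 (hcentral t ht y hy),
      commutatorElement_eq_one_iff_mul_comm.2 (hcentral t ht y hy).symm⟩
  let N := T.subgroupOf B
  letI : CommGroup (B ⧸ N) :=
    { (inferInstance : Group (B ⧸ N)) with
      mul_comm := fun x y => by
        induction x using QuotientGroup.induction_on with
        | _ a =>
          induction y using QuotientGroup.induction_on with
          | _ c =>
            refine commutatorElement_eq_one_iff_mul_comm.1
              ((map_commutatorElement (QuotientGroup.mk' N) a c).symm.trans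
                ((QuotientGroup.eq_one_iff _).2 ?_))
            exact hBcomm (a : C) a.2 (c : C) c.2 }
  -- the pairing
  haveI : IsCyclic T := isCyclic_of_injective_ringHom f hf
  obtain ⟨ι, hι⟩ := exists_hom_complex T
  let κ : B → B → T := fun a c => ⟨⁅(a : C), (c : C)⁆, hBcomm a a.2 c c.2⟩
  have hκout : ∀ a c : B, κ (a : B ⧸ N).out c = κ a c ∧ κ c (a : B ⧸ N).out = κ c a := by
    intro a c
    obtain ⟨⟨d, hd⟩, he⟩ := QuotientGroup.mk_out_eq_mul N a
    have hd' : (d : C) ∈ T := hd
    constructor <;> apply Subtype.ext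
    · change ⁅(((a : B ⧸ N).out : B) : C), (c : C)⁆ = ⁅(a : C), (c : C)⁆
      rw [he, Subgroup.coe_mul, hml a a.2 d d.2 c c.2, (hTone d hd' c c.2).1, mul_one]
    · change ⁅(c : C), (((a : B ⧸ N).out : B) : C)⁆ = ⁅(c : C), (a : C)⁆
      rw [he, Subgroup.coe_mul, hmr c c.2 a a.2 d d.2, (hTone d hd' c c.2).2, mul_one]
  let P : Alt (Additive (B ⧸ N)) :=
    { f := fun x y => ι (κ (Additive.toMul x).out (Additive.toMul y).out)
      add_left := by
        intro x y w
        induction x using Additive.rec with
        | ofMul x =>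
        induction y using Additive.rec with
        | ofMul y =>
        induction x using QuotientGroup.induction_on with
        | _ a =>
        induction y using QuotientGroup.induction_on with
        | _ c =>
        change ι (κ ((a * c : B) : B ⧸ N).out _) = _
        rw [(hκout (a * c) _).1]
        change _ = ι (κ (a : B ⧸ N).out _) * ι (κ (c : B ⧸ N).out _)
        rw [(hκout a _).1, (hκout c _).1, ← map_mul]
        exact congrArg ι (Subtype.ext (hml a a.2 c c.2 _ (SetLike.coe_mem _)))
      add_right := by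
        intro w x y
        induction x using Additive.rec with
        | ofMul x =>
        induction y using Additive.rec with
        | ofMul y =>
        induction x using QuotientGroup.induction_on with
        | _ a =>
        induction y using QuotientGroup.induction_on with
        | _ c =>
        change ι (κ _ ((a * c : B) : B ⧸ N).out) = _
        rw [(hκout (a * c) _).2]
        change _ = ι (κ _ (a : B ⧸ N).out) * ι (κ _ (c : B ⧸ N).out)
        rw [(hκout a _).2, (hκout c _).2, ← map_mul]
        exact congrArg ι (Subtype.ext (hmr _ (SetLike.coe_mem _) a a.2 c c.2))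
      self := fun x => by
        rw [← map_one ι]
        exact congrArg ι (Subtype.ext (commutatorElement_eq_one_iff_mul_comm.2 rfl)) }
  have hPmk : ∀ a c : B, P.f (Additive.ofMul (a : B ⧸ N)) (Additive.ofMul (c : B ⧸ N)) =
      ι (κ a c) := by
    intro a c
    change ι (κ (a : B ⧸ N).out (c : B ⧸ N).out) = _
    rw [(hκout a _).1, (hκout c _).2]
  have hP : P.Nondeg := by
    intro x hx
    induction x using Additive.rec with
    | ofMul x =>
    induction x using QuotientGroup.induction_on with
    | _ a =>
    refine congrArg Additive.ofMul ((QuotientGroup.eq_one_iff a).2 ?_)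
    refine hcentre _ a.2 fun c hc => commutatorElement_eq_one_iff_mul_comm.1 ?_
    have h1 := hx (Additive.ofMul ((⟨c, hc⟩ : B) : B ⧸ N))
    rw [hPmk, ← map_one ι] at h1
    exact congrArg Subtype.val (hι h1)
  -- conjugation on `B ⧸ N`
  have hNmap : ∀ g : C, N.map (MulAut.conjNormal g : B ≃* B).toMonoidHom = N := by
    intro g
    ext x
    constructor
    · rintro ⟨y, hy, rfl⟩
      change ((MulAut.conjNormal g y : B) : C) ∈ T
      rw [MulAut.conjNormal_apply]
      exact hTn.conj_mem _ hy g
    · intro hx
      refine ⟨MulAut.conjNormal g⁻¹ x, ?_, ?_⟩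
      · change ((MulAut.conjNormal g⁻¹ x : B) : C) ∈ T
        rw [MulAut.conjNormal_apply]
        exact hTn.conj_mem _ hx g⁻¹
      · apply Subtype.ext
        change ((MulAut.conjNormal g (MulAut.conjNormal g⁻¹ x) : B) : C) = x
        rw [MulAut.conjNormal_apply, MulAut.conjNormal_apply]
        group
  let ψ : D →* MulAut (B ⧸ N) :=
    { toFun := fun g => QuotientGroup.congr N N (MulAut.conjNormal (g : C)) (hNmap g)
      map_one' := MulEquiv.ext fun x => by
        induction x using QuotientGroup.induction_on with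
        | _ a => exact congrArg QuotientGroup.mk (Subtype.ext (by simp))
      map_mul' := fun g h => MulEquiv.ext fun x => by
        induction x using QuotientGroup.induction_on with
        | _ a => exact congrArg QuotientGroup.mk (Subtype.ext (by simp [mul_assoc])) }
  have hψ : ∀ (g : D) (a : B), ψ g (a : B ⧸ N) =
      ((MulAut.conjNormal (g : C) a : B) : B ⧸ N) := fun _ _ => rfl
  letI : DistribMulAction ψ.range (Additive (B ⧸ N)) :=
    { smul := fun g x => Additive.ofMul ((g : MulAut (B ⧸ N)) (Additive.toMul x))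
      one_smul := fun x => rfl
      mul_smul := fun g h x => rfl
      smul_zero := fun g => congrArg Additive.ofMul (map_one (g : MulAut (B ⧸ N)))
      smul_add := fun g x y => congrArg Additive.ofMul (map_mul (g : MulAut (B ⧸ N)) _ _) }
  have hexp : ∃ R : ℕ, Squarefree R ∧ ∀ x : Additive (B ⧸ N), R • x = 0 := by
    refine ⟨R, hR, fun x => ?_⟩
    induction x using Additive.rec with
    | ofMul x =>
    induction x using QuotientGroup.induction_on with
    | _ a =>
    refine congrArg Additive.ofMul (?_ : ((a : B ⧸ N)) ^ R = 1)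
    rw [← QuotientGroup.mk_pow, QuotientGroup.eq_one_iff]
    change ((a ^ R : B) : C) ∈ T
    rw [Subgroup.coe_pow]
    exact hRB _ a.2
  obtain ⟨e, he, hbound⟩ := iso_bound (U := ψ.range) P hP
    (by
      rintro ⟨_, g, rfl⟩ x y
      induction x using Additive.rec with
      | ofMul x =>
      induction y using Additive.rec with
      | ofMul y =>
      induction x using QuotientGroup.induction_on with
      | _ a =>
      induction y using QuotientGroup.induction_on with
      | _ c =>
      change P.f (Additive.ofMul (ψ g (a : B ⧸ N))) (Additive.ofMul (ψ g (c : B ⧸ N))) = _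
      rw [hψ, hψ, hPmk, hPmk]
      refine congrArg ι (Subtype.ext ?_)
      change ⁅((MulAut.conjNormal (g : C) a : B) : C), ((MulAut.conjNormal (g : C) c : B) : C)⁆ =
        ⁅(a : C), (c : C)⁆
      rw [MulAut.conjNormal_apply, MulAut.conjNormal_apply, ← conjugate_commutatorElement,
        hDc g g.2 _ (hBcomm a a.2 c c.2), mul_inv_cancel_right])
    (fun g hg => Subtype.ext (MulEquiv.ext fun x => congrArg Additive.toMul (hg (Additive.ofMul x))))
    hexp
  have hQ : Nat.card (B ⧸ N) = e ^ 2 := (Nat.card_congr Additive.toMul).symm.trans he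
  -- the kernel of the action on the layer is the layer
  have hker : ψ.ker ≤ B.subgroupOf D := by
    intro g hg
    obtain ⟨hfin, hle⟩ := Alt.card_monoidHom_le (B ⧸ N)
    let Φ : B ⧸ N → (B ⧸ N →* ℂ) := fun x =>
      { toFun := fun y => P.f (Additive.ofMul x) (Additive.ofMul y)
        map_one' := P.zero_right _
        map_mul' := fun y w => P.add_right _ _ _ }
    have hΦ : Function.Injective Φ := fun x y h => Additive.ofMul.injective (sub_eq_zero.1
      (hP _ fun w => by
        have h1 : P.f (Additive.ofMul x) w = P.f (Additive.ofMul y) w :=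
          DFunLike.congr_fun h (Additive.toMul w)
        rw [P.sub_left, h1, mul_inv_cancel₀ (P.ne_zero _ _)]))
    have hgT : ∀ a : B, ⁅((g : D) : C), (a : C)⁆ ∈ T := by
      intro a
      have h1 : ψ g (a : B ⧸ N) = (a : B ⧸ N) := by rw [show ψ g = 1 from hg]; rfl
      rw [hψ, eq_comm, QuotientGroup.eq] at h1
      have h2 : (a : C)⁻¹ * ((g : C) * a * (g : C)⁻¹) ∈ T := by
        simpa [N, Subgroup.mem_subgroupOf] using h1
      have h3 := hTn.conj_mem _ h2 (a : C)
      have e1 : (a : C) * ((a : C)⁻¹ * ((g : C) * a * (g : C)⁻¹)) * (a : C)⁻¹ =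
          ⁅(g : C), (a : C)⁆ := by
        simp only [commutatorElement_def]; group
      rwa [e1] at h3
    let χ : B →* ℂ :=
      { toFun := fun a => ι ⟨_, hgT a⟩
        map_one' := by
          rw [← map_one ι]
          exact congrArg ι (Subtype.ext (commutatorElement_one_right _))
        map_mul' := fun a c => by
          rw [← map_mul ι]
          refine congrArg ι (Subtype.ext ?_)
          change ⁅((g : D) : C), (a : C) * (c : C)⁆ = ⁅((g : D) : C), (a : C)⁆ * ⁅((g : D) : C), (c : C)⁆
          have h1 : ⁅((g : D) : C), (a : C) * (c : C)⁆ =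
              ⁅((g : D) : C), (a : C)⁆ * ((a : C) * ⁅((g : D) : C), (c : C)⁆ * (a : C)⁻¹) := by
            simp only [commutatorElement_def]; group
          rw [h1, ← hcentral _ (hgT c) a a.2, mul_inv_cancel_right] }
    have hχ : N ≤ χ.ker := fun a ha => by
      rw [MonoidHom.mem_ker, ← map_one ι]
      exact congrArg ι (Subtype.ext (commutatorElement_eq_one_iff_mul_comm.2 (hDc g g.2 _ ha)))
    obtain ⟨x, hx⟩ := ((Nat.bijective_iff_injective_and_card Φ).2
      ⟨hΦ, le_antisymm (Nat.card_le_card_of_injective Φ hΦ) hle⟩).2 (QuotientGroup.lift N χ hχ)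
    induction x using QuotientGroup.induction_on with
    | _ c =>
    have hc : ∀ a : B, ⁅((g : D) : C), (a : C)⁆ = ⁅(c : C), (a : C)⁆ := by
      intro a
      have h1 := DFunLike.congr_fun hx (a : B ⧸ N)
      change P.f (Additive.ofMul (c : B ⧸ N)) (Additive.ofMul (a : B ⧸ N)) = ι ⟨_, hgT a⟩ at h1
      rw [hPmk] at h1
      exact (congrArg Subtype.val (hι h1)).symm
    have hgc : (c : C)⁻¹ * (g : C) ∈ T := by
      refine hCB _ (fun t ht => ?_) fun a ha => ?_
      · have e1 : (c : C)⁻¹ * t = t * (c : C)⁻¹ := (hcentral t ht _ (inv_mem c.2)).symm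
        calc (c : C)⁻¹ * (g : C) * t = (c : C)⁻¹ * (t * (g : C)) := by
              rw [mul_assoc, hDc g g.2 t ht]
          _ = t * ((c : C)⁻¹ * (g : C)) := by rw [← mul_assoc, e1, mul_assoc]
      · have h1 := hc ⟨a, ha⟩
        simp only [commutatorElement_def] at h1
        have h2 : (g : C) * a * (g : C)⁻¹ = (c : C) * a * (c : C)⁻¹ := mul_right_cancel h1
        calc (c : C)⁻¹ * (g : C) * a = (c : C)⁻¹ * ((g : C) * a * (g : C)⁻¹) * (g : C) := by group
          _ = a * ((c : C)⁻¹ * (g : C)) := by rw [h2]; group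
    rw [Subgroup.mem_subgroupOf]
    have := mul_mem c.2 (hTB hgc)
    rwa [mul_inv_cancel_left] at this
  -- the count of the layer
  have hen : e ≤ n := by
    let ρ : B → (W →ₗ[K] W) := fun a =>
      { toFun := fun w => (a : C) • w
        map_add' := fun x y => smul_add _ _ _
        map_smul' := fun x w => hscal _ (hBD a.2) x w }
    let Φ : B → (W →ₗ[K] W) →ₗ[K] (W →ₗ[K] W) := fun a =>
      (LinearMap.llcomp K W W W (ρ a)).comp
        ((LinearMap.llcomp K W W W).flip (ρ a⁻¹))
    let χ : B ⧸ N → B →* K := fun x =>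
      { toFun := fun a => f (κ a x.out)
        map_one' := by
          rw [← map_one f]
          exact congrArg f (Subtype.ext (commutatorElement_one_left _))
        map_mul' := fun a c => by
          rw [← map_mul f]
          exact congrArg f (Subtype.ext (hml a a.2 c c.2 _ (SetLike.coe_mem _))) }
    have hχ : Function.Injective χ := by
      intro x y h
      rw [← QuotientGroup.out_eq' x, ← QuotientGroup.out_eq' y, QuotientGroup.eq]
      refine hcentre _ (Subtype.prop ((x.out : B)⁻¹ * y.out)) fun c hc => ?_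
      have h1 := congrArg Subtype.val (hf (DFunLike.congr_fun h (⟨c, hc⟩ : B)))
      change ⁅c, ((x.out : B) : C)⁆ = ⁅c, ((y.out : B) : C)⁆ at h1
      refine (commutatorElement_eq_one_iff_mul_comm.1 ?_).symm
      rw [Subgroup.coe_subtype, Subgroup.coe_mul, hmr c hc _ (SetLike.coe_mem _) _ (SetLike.coe_mem _), ← h1,
        ← hmr c hc _ (SetLike.coe_mem _) _ (SetLike.coe_mem _), ← Subgroup.coe_mul, inv_mul_cancel]
      exact commutatorElement_one_right c
    have hm : ∀ x : B ⧸ N, ρ x.out ≠ 0 := by
      intro x h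
      obtain ⟨w, hw⟩ := exists_ne (0 : W)
      have h1 : ((x.out : B) : C) • w = 0 := LinearMap.congr_fun h w
      exact hw ((smul_eq_zero_iff_eq _).1 h1)
    have := card_le_finrank_of_characters Φ (fun x => ρ x.out) hm χ hχ fun a x =>
      LinearMap.ext fun w => by
        change (a : C) • ((x.out : B) : C) • ((a⁻¹ : B) : C) • w =
          ⁅(a : C), ((x.out : B) : C)⁆ • ((x.out : B) : C) • w
        simp only [smul_smul, commutatorElement_def, Subgroup.coe_inv]
        congr 1
        group
    rw [hQ, Module.finrank_linearMap, ← sq] at this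
    exact (Nat.pow_le_pow_iff_left two_ne_zero).1 this
  -- the abelian subgroup
  obtain ⟨L, hL, hLcard⟩ := exists_isotropic hP
  rw [Nat.card_congr (Additive.toMul (α := B ⧸ N)), hQ] at hLcard
  have hLe : Nat.card L = e := (Nat.pow_left_injective two_ne_zero) hLcard
  let L' : Subgroup (B ⧸ N) := AddSubgroup.toSubgroup' L
  let A : Subgroup C := (L'.comap (QuotientGroup.mk' N)).map B.subtype
  refine ⟨A, ?_, ?_⟩
  · rintro _ ⟨a, ha, rfl⟩ _ ⟨c, hc, rfl⟩ w
    have h1 := hL _ ha _ hc
    change P.f (Additive.ofMul (a : B ⧸ N)) (Additive.ofMul (c : B ⧸ N)) = 1 at h1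
    rw [hPmk, ← map_one ι] at h1
    simp only [Subgroup.coe_subtype, smul_smul,
      commutatorElement_eq_one_iff_mul_comm.1 (congrArg Subtype.val (hι h1))]
  · have hidx : A.index ≤ b * (e * Nat.card ψ.range) := by
      rw [Subgroup.index_map, Subgroup.ker_subtype, sup_bot_eq, Subgroup.range_subtype,
        Subgroup.index_comap_of_surjective _ (QuotientGroup.mk'_surjective N)]
      have hL' : L'.index = e := by
        have h1 := Subgroup.card_mul_index L'
        rw [show Nat.card L' = Nat.card L from rfl, hLe, hQ, sq] at h1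
        exact Nat.eq_of_mul_eq_mul_left (hLe ▸ Nat.card_pos) h1
      rw [hL', ← Subgroup.relIndex_mul_index hBD]
      have h2 : B.relIndex D ≤ Nat.card ψ.range := by
        rw [← Subgroup.index_ker]
        exact Nat.le_of_dvd (Nat.pos_of_ne_zero Subgroup.index_ne_zero_of_finite)
          (Subgroup.index_dvd_of_le hker)
      calc e * (B.relIndex D * D.index) ≤ e * (Nat.card ψ.range * b) := by gcongr
        _ = _ := by ring
    calc A.index ^ 6 * ringCard W z ^ 2
        ≤ (b * (e * Nat.card ψ.range)) ^ 6 * ringCard W z ^ 2 := by gcongr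
      _ ≤ ((ringCard W z ^ b) ^ n) ^ 3 := no_block_arith hq hb1 hn1 hen hbound
      _ = Nat.card W ^ 3 := by rw [← hKcard, ← hWcard]

end Cfsg.Agent.H88.ClassBound
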