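import Mathlib
import Cfsg.Agent.H88.ClassBound.GoodPrimitive

/-!
# Large abelian subgroups of solvable linear groups with a central scalar of large order
-/

set_option autoImplicit false
set_option linter.unusedSectionVars false

namespace Cfsg.Agent.H88.ClassBound

open Cfsg.Agent.H10.BaseThree

universe u v

theorem hasAbelian_aux : ∀ (n : ℕ) (C : Type u) (W : Type v) [Group C] [Finite C]
    [Group.IsSolvable C] [AddCommGroup W] [Finite W] [DistribMulAction C W] (z : C),
    Nat.card W = n → Irred C W → (∀ (g : C) (w : W), g • z • w = z • g • w) →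
    128 ≤ ringCard W z → HasAbelian W z := by
  intro n
  induction n using Nat.strong_induction_on with
  | _ n ih =>
    intro C W _ _ _ _ _ _ z hn hirr hz hq
    classical
    -- make the action faithful
    let φ : C →* AddMonoid.End W := DistribMulAction.toAddMonoidEnd C W
    let C' := C ⧸ φ.ker
    letI : DistribMulAction C' W :=
      DistribMulAction.compHom (M := AddMonoid.End W) W (QuotientGroup.lift φ.ker φ le_rfl)
    let z' : C' := (z : C')
    have hfaith : ∀ g : C', (∀ w : W, g • w = w) → g = 1 := by
      intro g hg
      induction g using QuotientGroup.induction_on with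
      | _ g => exact (QuotientGroup.eq_one_iff g).2 (AddMonoidHom.ext hg)
    have hirr' : Irred C' W := ⟨hirr.1, fun U hU => hirr.2 U fun g w hw => hU (g : C') w hw⟩
    have hz' : ∀ (g : C') (w : W), g • z' • w = z' • g • w := by
      intro g w
      induction g using QuotientGroup.induction_on with
      | _ g => exact hz g w
    have hq' : 128 ≤ ringCard W z' := hq
    haveI : Group.IsSolvable C' := solvable_of_surjective (QuotientGroup.mk'_surjective φ.ker)
    have hzc : ∀ g : C', g * z' = z' * g := fun g => by
      refine inv_mul_eq_one.1 (hfaith _ fun w => ?_)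
      rw [mul_smul, inv_smul_eq_iff, mul_smul, mul_smul, hz']
    have main : HasAbelian W z' := by
      let Fam : Set (Subgroup C') := {A | A.Normal ∧ ∀ a ∈ A, ∀ b ∈ A, a * b = b * a}
      have hzF : Subgroup.zpowers z' ∈ Fam := by
        refine ⟨⟨fun a ha g => ?_⟩, fun a ha b hb => ?_⟩
        · obtain ⟨k, rfl⟩ := Subgroup.mem_zpowers_iff.1 ha
          rw [(Commute.zpow_right (hzc g) k).eq, mul_inv_cancel_right]
          exact Subgroup.zpow_mem_zpowers z' k
        · obtain ⟨k, rfl⟩ := Subgroup.mem_zpowers_iff.1 ha
          obtain ⟨l, rfl⟩ := Subgroup.mem_zpowers_iff.1 hb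
          exact (Commute.zpow_zpow_self z' k l).eq
      obtain ⟨T, hzT, ⟨⟨hTn, hTc⟩, hTmax⟩⟩ := (Set.toFinite Fam).exists_le_maximal hzF
      haveI := hTn
      have hzT' : z' ∈ T := hzT (Subgroup.mem_zpowers z')
      by_cases hb : ∃ e ∈ scalars W T, IsBlock C' e
      · obtain ⟨e, he, hblock⟩ := hb
        refine hasAbelian_of_block hirr' hz' hq' ?_ hblock ?_
        · intro C'' W'' _ _ _ _ _ _ z'' hlt h1 h2 h3
          exact ih _ (hn ▸ hlt) C'' W'' z'' rfl h1 h2 h3
        · rw [mem_blockStab]
          refine AddMonoidHom.ext fun w => ?_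
          have h1 := DFunLike.congr_fun (scalars_comm hTc
            (toScalar W T ⟨z', hzT'⟩).2 he) (z'⁻¹ • w)
          rw [AddMonoid.End.coe_mul, AddMonoid.End.coe_mul, Function.comp_apply,
            Function.comp_apply, toScalar_apply, toScalar_apply, smul_inv_smul] at h1
          change z' • e (z'⁻¹ • w) = e w
          exact h1
      · push Not at hb
        exact hasAbelian_of_no_block hirr' hfaith hq' hTc
          (fun A hA hTA hAc => hTmax ⟨hA, hAc⟩ hTA) hzT' hzc hb
    obtain ⟨A, hA, hidx⟩ := main
    refine ⟨A.comap (QuotientGroup.mk' φ.ker), fun a ha b hb w => hA _ ha _ hb w, ?_⟩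
    rw [Subgroup.index_comap_of_surjective _ (QuotientGroup.mk'_surjective φ.ker)]
    exact hidx

/-- An irreducible solvable group with a central element generating a ring of order at least
`128` has a subgroup acting abelianly of small index. -/
theorem hasAbelian {C : Type u} {W : Type v} [Group C] [Finite C] [Group.IsSolvable C]
    [AddCommGroup W] [Finite W] [DistribMulAction C W] {z : C} (hirr : Irred C W)
    (hz : ∀ (g : C) (w : W), g • z • w = z • g • w) (hq : 128 ≤ ringCard W z) : HasAbelian W z :=
  hasAbelian_aux _ C W z rfl hirr hz hq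

end Cfsg.Agent.H88.ClassBound
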