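import Mathlib
import Cfsg.Agent.H88.ClassBound.Scalars

/-!
# Rings with many homomorphisms into a field
-/

set_option autoImplicit false
set_option linter.unusedSectionVars false

namespace Cfsg.Agent.H88.ClassBound

open Cfsg.Agent.H10.BaseThree

/-- Distinct homomorphisms from a finite ring to a field force the ring to be large. -/
theorem two_pow_le_card {E K ι : Type*} [Ring E] [Finite E] [Field K] [Finite ι]
    (φ : ι → E →+* K) (hφ : Function.Injective φ) : 2 ^ Nat.card ι ≤ Nat.card E := by
  classical
  haveI := Fintype.ofFinite ι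
  have hli : LinearIndependent K (fun i => ((φ i).toMonoidHom : E → K)) :=
    (linearIndependent_monoidHom E K).comp (fun i => (φ i).toMonoidHom)
      fun i j h => hφ (RingHom.ext fun x => DFunLike.congr_fun h x)
  let Ψ : E → (ι → K) := fun x i => φ i x
  have hspan : Submodule.span K (Set.range Ψ) = ⊤ := by
    by_contra hne
    obtain ⟨f, hf0, hf⟩ := Submodule.exists_dual_map_eq_bot_of_lt_top (lt_top_iff_ne_top.2 hne) inferInstance
    apply hf0
    have hsum : ∀ v : ι → K, f v = ∑ i, v i * f (Pi.single i 1) := fun v => by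
      conv_lhs => rw [pi_eq_sum_univ' v]
      simp [map_sum]
    have hz : ∑ i, f (Pi.single i 1) • ((φ i).toMonoidHom : E → K) = 0 := by
      funext x
      have h1 : f (Ψ x) = 0 := by
        have : f (Ψ x) ∈ (Submodule.span K (Set.range Ψ)).map f :=
          Submodule.mem_map_of_mem (Submodule.subset_span ⟨x, rfl⟩)
        rwa [hf, Submodule.mem_bot] at this
      rw [hsum] at h1
      simp only [Finset.sum_apply, Pi.smul_apply, Pi.zero_apply, smul_eq_mul]
      rw [← h1]
      exact Finset.sum_congr rfl fun i _ => mul_comm _ _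
    have h0 := Fintype.linearIndependent_iff.1 hli _ hz
    exact LinearMap.ext fun v => by rw [hsum]; simp [h0]
  let b := Module.Basis.ofSpan hspan.ge
  have hb : ∀ x, ∃ e, Ψ e = b x := fun x => by
    have h1 := Module.Basis.ofSpan_subset hspan.ge ⟨x, rfl⟩
    exact h1
  choose e he using hb
  haveI : Fintype _ := FiniteDimensional.fintypeBasisIndex b
  let S : Finset _ → E := fun T => ∑ x ∈ T, e x
  have hS : Function.Injective S := by
    intro T T' h
    have hΨ : ∀ U, Ψ (S U) = ∑ x ∈ U, b x := by
      intro U
      funext i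
      simp only [S, Ψ, map_sum, Finset.sum_apply]
      exact Finset.sum_congr rfl fun x _ => congrFun (he x) i
    have h1 := congrArg Ψ h
    rw [hΨ, hΨ] at h1
    ext x
    have h2 := congrArg (fun v => b.repr v x) h1
    simp only [map_sum, Module.Basis.repr_self, Finsupp.finsetSum_apply, Finsupp.single_apply,
      Finset.sum_ite_eq'] at h2
    by_cases hx : x ∈ T <;> by_cases hx' : x ∈ T' <;> simp_all
  refine le_trans (le_of_eq ?_) (Nat.card_le_card_of_injective S hS)
  rw [Nat.card_eq_fintype_card (α := Finset _), Fintype.card_finset,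
    ← Module.finrank_eq_card_basis b, Module.finrank_fintype_fun_eq_card, Nat.card_eq_fintype_card]

theorem scalars_smul_comm {G V : Type*} [Group G] [AddCommGroup V] [DistribMulAction G V]
    {T : Subgroup G} {g : G} (hg : ∀ t ∈ T, g * t = t * g) {x : AddMonoid.End V}
    (hx : x ∈ scalars V T) (v : V) : g • x v = x (g • v) := by
  induction hx using Subring.closure_induction generalizing v with
  | mem a ha =>
    obtain ⟨t, ht, rfl⟩ := ha
    change g • t • v = t • g • v
    rw [← mul_smul, ← mul_smul, hg t ht]
  | zero => exact smul_zero g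
  | one => rfl
  | add a b _ _ ha hb =>
    change g • (a v + b v) = a (g • v) + b (g • v)
    rw [smul_add, ha, hb]
  | neg a _ ha =>
    change g • (-a v) = -a (g • v)
    rw [smul_neg, ha]
  | mul a b _ _ ha hb =>
    change g • a (b v) = a (b (g • v))
    rw [ha, hb]

/-- A field with an element of order `p ≥ 79` has at least `128` elements. -/
theorem card_ge_of_order {K : Type*} [Field K] [Finite K] {p : ℕ} (hp : p.Prime) (h79 : 79 ≤ p)
    (x : K) (hx : orderOf x = p) : 128 ≤ Nat.card K := by
  haveI := Fintype.ofFinite K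
  have hx0 : x ≠ 0 := fun h => by
    have h1 := pow_orderOf_eq_one x
    rw [hx, h, zero_pow hp.ne_zero] at h1
    exact zero_ne_one h1
  have hdvd : p ∣ Fintype.card K - 1 := hx ▸ orderOf_dvd_of_pow_eq_one
    (FiniteField.pow_card_sub_one_eq_one x hx0)
  obtain ⟨r, hr⟩ : ∃ r, CharP K r := ⟨_, ringChar.charP K⟩
  obtain ⟨d, hr', hcard⟩ := FiniteField.card K r
  rw [Nat.card_eq_fintype_card]
  by_contra hlt
  push Not at hlt
  obtain ⟨c, hc⟩ := hdvd
  have hK2 : 2 ≤ Fintype.card K := Fintype.one_lt_card
  have hc1 : c = 1 := by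
    rcases Nat.lt_or_ge c 2 with h | h
    · interval_cases c <;> omega
    · have := Nat.mul_le_mul_left p h
      omega
  have heven : 2 ∣ Fintype.card K := by
    have hodd := hp.odd_of_ne_two (by omega)
    rw [Nat.odd_iff] at hodd
    subst hc1
    omega
  rw [hcard] at heven hlt
  have hr2 : r = 2 := ((Nat.prime_dvd_prime_iff_eq Nat.prime_two hr').1
    (Nat.prime_two.dvd_of_dvd_pow heven)).symm
  subst hr2
  have hd : (d : ℕ) < 7 := by
    by_contra h
    exact absurd (Nat.pow_le_pow_right two_pos (not_lt.1 h)) (by norm_num; omega)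
  subst hc1
  rw [hcard] at hc
  interval_cases (d : ℕ) <;> omega

end Cfsg.Agent.H88.ClassBound
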