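import Mathlib
import Cfsg.Agent.H88.ClassBound.Good
import Cfsg.Agent.H88.ClassBound.Dual
import Cfsg.Agent.H88.ClassBound.Rings

/-!
# Irreducible solvable groups with a normal elementary abelian `p`-subgroup
-/

set_option autoImplicit false
set_option linter.unusedSectionVars false

namespace Cfsg.Agent.H88.ClassBound

open Cfsg.Agent.H10.BaseThree
open scoped commutatorElement

universe u v

theorem three_mul_pow_le {k : ℕ} (hk : 18 ≤ k) : (3 * k) ^ 6 ≤ 4 ^ k := by
  have h : (3 * k) ^ 3 ≤ 2 ^ k := by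
    induction k, hk using Nat.le_induction with
    | base => norm_num
    | succ k hk ih =>
      have h1 : (4 * (3 * (k + 1))) ^ 3 ≤ (5 * (3 * k)) ^ 3 := Nat.pow_le_pow_left (by omega) 3
      rw [mul_pow, mul_pow 5] at h1
      rw [pow_succ 2 k]
      norm_num at h1 ⊢
      omega
  calc (3 * k) ^ 6 = ((3 * k) ^ 3) ^ 2 := by rw [← pow_mul]
    _ ≤ (2 ^ k) ^ 2 := Nat.pow_le_pow_left h 2
    _ = 4 ^ k := by rw [← pow_mul, mul_comm, pow_mul]; norm_num

theorem lines_arith {k l Y q n s v i : ℕ} (hk : 18 ≤ k) (hl : 1 ≤ l)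
    (hi : i ≤ 3 ^ (l - 1) * k ^ l * Y ^ n) (hq : 2 ^ (k * l) ≤ q ^ n)
    (hY : Y ^ 6 * q ^ 2 ≤ s ^ 3) (hs : s ^ n ≤ v) : i ^ 6 * 4 ^ k ≤ v ^ 3 * k ^ 6 := by
  obtain ⟨r, rfl⟩ : ∃ r, l = r + 1 := ⟨l - 1, by omega⟩
  rw [Nat.add_sub_cancel] at hi
  have h4 : ∀ a, (4 : ℕ) ^ a = (2 ^ a) ^ 2 := fun a => by
    rw [← pow_mul, mul_comm, pow_mul]; norm_num
  calc i ^ 6 * 4 ^ k ≤ (3 ^ r * k ^ (r + 1) * Y ^ n) ^ 6 * 4 ^ k := by gcongr
    _ = k ^ 6 * (((3 * k) ^ 6) ^ r * 4 ^ k * (Y ^ 6) ^ n) := by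
        simp only [mul_pow, ← pow_mul]; ring_nf
    _ ≤ k ^ 6 * ((4 ^ k) ^ r * 4 ^ k * (Y ^ 6) ^ n) :=
        Nat.mul_le_mul_left _ (Nat.mul_le_mul_right _ (Nat.mul_le_mul_right _
          (Nat.pow_le_pow_left (three_mul_pow_le hk) _)))
    _ = k ^ 6 * ((2 ^ (k * (r + 1))) ^ 2 * (Y ^ 6) ^ n) := by
        rw [← pow_succ, ← pow_mul, h4 (k * (r + 1))]
    _ ≤ k ^ 6 * ((q ^ n) ^ 2 * (Y ^ 6) ^ n) := by gcongr
    _ = k ^ 6 * (Y ^ 6 * q ^ 2) ^ n := by
        rw [mul_pow, ← pow_mul q, mul_comm n 2, pow_mul q]; ring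
    _ ≤ k ^ 6 * (s ^ 3) ^ n := by gcongr
    _ = k ^ 6 * (s ^ n) ^ 3 := by rw [← pow_mul, ← pow_mul, mul_comm 3 n]
    _ ≤ k ^ 6 * v ^ 3 := by gcongr
    _ = v ^ 3 * k ^ 6 := mul_comm _ _

set_option maxHeartbeats 1000000 in
-- many instances in one proof
theorem core {H : Type u} {V : Type v} [Group H] [Finite H] [Group.IsSolvable H] [AddCommGroup V]
    [Finite V] [DistribMulAction H V] (hirr : Irred H V)
    (hfaith : ∀ g : H, (∀ w : V, g • w = w) → g = 1) (Z : Subgroup H) [hZn : Z.Normal]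
    (hZ1 : Z ≠ ⊥) (hc : ∀ a ∈ Z, ∀ b ∈ Z, a * b = b * a) {p : ℕ} (hp : p.Prime) (h79 : 79 ≤ p)
    (hexp : ∀ x ∈ Z, x ^ p = 1) :
    ∃ k, 1 ≤ k ∧ p ≤ k * Nat.card (ConjClasses H) ∧ (18 ≤ k →
      ∃ A : Subgroup H, (∀ a ∈ A, ∀ b ∈ A, a * b = b * a) ∧
        A.index ^ 6 * 4 ^ k ≤ Nat.card V ^ 3 * k ^ 6) := by
  classical
  haveI := hirr.1
  haveI := Fact.mk hp
  haveI := Fintype.ofFinite H
  let C : Subgroup H := Subgroup.centralizer (Z : Set H)
  haveI hCn : C.Normal := inferInstance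
  have hZC : Z ≤ C := fun x hx => Subgroup.mem_centralizer_iff.2 fun y hy => hc y hy x hx
  -- an irreducible `C`-submodule
  let F : Set (AddSubgroup V) := {U | U ≠ ⊥ ∧ ∀ c ∈ C, ∀ v ∈ U, c • v ∈ U}
  obtain ⟨S₀, -, ⟨⟨hS0, hSC⟩, hSmin⟩⟩ := (Set.toFinite F).exists_le_minimal
    (show (⊤ : AddSubgroup V) ∈ F from ⟨fun h => top_ne_bot h, fun _ _ _ _ => trivial⟩)
  letI : DistribMulAction C S₀ :=
    { smul := fun c w => ⟨(c : H) • (w : V), hSC c c.2 w w.2⟩
      one_smul := fun w => Subtype.ext (one_smul H (w : V))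
      mul_smul := fun a b w => Subtype.ext (mul_smul (a : H) (b : H) (w : V))
      smul_zero := fun a => Subtype.ext (smul_zero (a : H))
      smul_add := fun a x y => Subtype.ext (smul_add (a : H) (x : V) (y : V)) }
  have hirr0 : Irred C S₀ := by
    refine ⟨AddSubgroup.nontrivial_iff_ne_bot S₀ |>.2 hS0, fun U hU => ?_⟩
    rcases eq_or_ne U ⊥ with h | h
    · exact Or.inl h
    refine Or.inr ((AddSubgroup.eq_top_iff' _).2 fun w => ?_)
    have hUF : U.map S₀.subtype ∈ F := by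
      refine ⟨fun e => h ?_, ?_⟩
      · rw [eq_bot_iff]
        intro u hu
        have h1 : (u : V) ∈ U.map S₀.subtype := ⟨u, hu, rfl⟩
        rw [e, AddSubgroup.mem_bot] at h1
        exact AddSubgroup.mem_bot.2 (Subtype.ext h1)
      · rintro c hc' _ ⟨u, hu, rfl⟩
        exact ⟨(⟨c, hc'⟩ : C) • u, hU _ u hu, rfl⟩
    obtain ⟨u, hu, hue⟩ := hSmin hUF (by rintro _ ⟨u, -, rfl⟩; exact u.2) w.2
    exact (Subtype.ext hue : u = w) ▸ hu
  haveI := hirr0.1
  let Zc : Subgroup C := Z.subgroupOf C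
  haveI : Zc.Normal := inferInstance
  have hZcc : ∀ a ∈ Zc, ∀ b ∈ Zc, a * b = b * a := fun a ha b hb => Subtype.ext (hc _ ha _ hb)
  have hCZ : ∀ (g : C), ∀ t ∈ Zc, g * t = t * g := fun g t ht =>
    Subtype.ext (Subgroup.mem_centralizer_iff.1 g.2 _ ht).symm
  -- the scalars on `S₀` form a field
  let R := scalars S₀ Zc
  letI : CommRing R :=
    { (inferInstance : Ring R) with
      mul_comm := fun x y => Subtype.ext (scalars_comm hZcc x.2 y.2) }
  haveI : Nontrivial R := ⟨⟨0, 1, fun h => by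
    obtain ⟨w, hw⟩ := exists_ne (0 : S₀)
    exact hw (DFunLike.congr_fun (congrArg Subtype.val h) w).symm⟩⟩
  haveI : NoZeroDivisors R := ⟨fun {x y} h => by
    by_contra hcon
    push Not at hcon
    let U : AddSubgroup S₀ :=
      { carrier := {w | (x : AddMonoid.End S₀) w = 0}
        add_mem' := fun {a b} (ha : (x : AddMonoid.End S₀) a = 0)
          (hb : (x : AddMonoid.End S₀) b = 0) => by
          change (x : AddMonoid.End S₀) (a + b) = 0; rw [map_add, ha, hb, add_zero]
        zero_mem' := map_zero _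
        neg_mem' := fun {a} (ha : (x : AddMonoid.End S₀) a = 0) => by
          change (x : AddMonoid.End S₀) (-a) = 0; rw [map_neg, ha, neg_zero] }
    rcases hirr0.2 U (fun g w (hw : (x : AddMonoid.End S₀) w = 0) => by
        change (x : AddMonoid.End S₀) (g • w) = 0
        rw [← scalars_smul_comm (hCZ g) x.2, hw, smul_zero]) with h' | h'
    · refine hcon.2 (Subtype.ext (AddMonoidHom.ext fun w => ?_))
      have h1 : (y : AddMonoid.End S₀) w ∈ U :=
        DFunLike.congr_fun (congrArg Subtype.val h) w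
      rw [h', AddSubgroup.mem_bot] at h1
      exact h1
    · exact hcon.1 (Subtype.ext (AddMonoidHom.ext fun w =>
        (h' ▸ AddSubgroup.mem_top w : w ∈ U)))⟩
  haveI : IsDomain R := NoZeroDivisors.to_isDomain R
  haveI : Finite R := Subtype.finite
  letI : Fintype R := Fintype.ofFinite R
  letI : Field R := Fintype.fieldOfDomain R
  -- the fixer of `S₀` in `Z`
  let M₀ : Subgroup H :=
    { carrier := {x | x ∈ Z ∧ ∀ w ∈ S₀, x • w = w}
      mul_mem' := fun {a b} ha hb => ⟨mul_mem ha.1 hb.1, fun w hw => by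
        rw [mul_smul, hb.2 w hw, ha.2 w hw]⟩
      one_mem' := ⟨one_mem Z, fun w _ => one_smul H w⟩
      inv_mem' := fun {a} ha => ⟨inv_mem ha.1, fun w hw => by
        rw [inv_smul_eq_iff, ha.2 w hw]⟩ }
  have hMZ : M₀ ≤ Z := fun x hx => hx.1
  obtain ⟨x₀, hx₀, hx₀M⟩ : ∃ x ∈ Z, x ∉ M₀ := by
    by_contra hcon
    push Not at hcon
    apply hZ1
    let U : AddSubgroup V :=
      { carrier := {v | ∀ x ∈ Z, x • v = v}
        add_mem' := fun {a b} ha hb x hx => by rw [smul_add, ha x hx, hb x hx]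
        zero_mem' := fun x _ => smul_zero x
        neg_mem' := fun {a} ha x hx => by rw [smul_neg, ha x hx] }
    rcases hirr.2 U (fun g v hv x hx => by
        have h1 := hv _ (by simpa using hZn.conj_mem x hx g⁻¹ : g⁻¹ * x * g ∈ Z)
        rwa [mul_smul, mul_smul, inv_smul_eq_iff] at h1) with h | h
    · exfalso
      refine hS0 ((AddSubgroup.eq_bot_iff_forall _).2 fun w hw => ?_)
      have h1 : w ∈ U := fun x hx => (hcon x hx).2 w hw
      rwa [h, AddSubgroup.mem_bot] at h1
    · refine (Subgroup.eq_bot_iff_forall _).2 fun x hx => hfaith x fun v => ?_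
      exact (h ▸ AddSubgroup.mem_top v : v ∈ U) x hx
  let fZ : Z →* Rˣ := ((toScalar S₀ Zc).comp
    (Subgroup.subgroupOfEquivOfLe hZC).symm.toMonoidHom).toHomUnits
  have hfZ : ∀ (x : Z) (w : S₀), ((((fZ x : Rˣ) : R) : AddMonoid.End S₀) w : V) = (x : H) • (w : V) :=
    fun x w => rfl
  have hker : fZ.ker = M₀.subgroupOf Z := by
    ext x
    rw [MonoidHom.mem_ker, Subgroup.mem_subgroupOf]
    constructor
    · intro h
      refine ⟨x.2, fun w hw => ?_⟩
      have := hfZ x ⟨w, hw⟩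
      rw [h] at this
      exact this.symm
    · intro h
      refine Units.ext (Subtype.ext (AddMonoidHom.ext fun w => Subtype.ext ?_))
      exact (hfZ x w).trans (h.2 w w.2)
  have hfx₀ : fZ ⟨x₀, hx₀⟩ ≠ 1 := fun h => hx₀M (by
    have : (⟨x₀, hx₀⟩ : Z) ∈ M₀.subgroupOf Z := hker ▸ MonoidHom.mem_ker.2 h
    exact this)
  have hordp : ∀ y ∈ fZ.range, y ≠ 1 → orderOf y = p := by
    rintro _ ⟨x, rfl⟩ hy
    refine orderOf_eq_prime ?_ hy
    rw [← map_pow, show x ^ p = 1 from Subtype.ext (by simpa using hexp x x.2), map_one]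
  have hrange : Nat.card fZ.range = p := by
    obtain ⟨g, hg⟩ := IsCyclic.exists_generator (α := fZ.range)
    rw [← orderOf_eq_card_of_forall_mem_zpowers hg, ← Subgroup.orderOf_coe]
    refine hordp _ g.2 fun h => hfx₀ ?_
    obtain ⟨i, hi⟩ := Subgroup.mem_zpowers_iff.1 (hg ⟨_, ⟨⟨x₀, hx₀⟩, rfl⟩⟩)
    have := congrArg Subtype.val hi
    rw [Subgroup.coe_zpow, h, one_zpow] at this
    exact this.symm
  have hidx : M₀.relIndex Z = p := by
    rw [Subgroup.relIndex, ← hker, Subgroup.index_ker, hrange]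
  -- all scalars come from one element
  let z₀ : C := ⟨x₀, hZC hx₀⟩
  have hq : Nat.card R ≤ ringCard S₀ z₀ := by
    refine Nat.card_mono (Set.toFinite _) ((Subring.closure_le (t := Subring.closure _)).2 ?_)
    rintro _ ⟨t, ht, rfl⟩
    have h1 : fZ ⟨(t : H), ht⟩ ∈ Subgroup.zpowers (fZ ⟨x₀, hx₀⟩) := by
      have h2 : Subgroup.zpowers (fZ ⟨x₀, hx₀⟩) = fZ.range := by
        refine Subgroup.eq_of_le_of_card_ge (Subgroup.zpowers_le.2 ⟨_, rfl⟩) ?_
        rw [Nat.card_zpowers, hordp _ ⟨_, rfl⟩ hfx₀, hrange]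
      rw [h2]; exact ⟨_, rfl⟩
    rw [← mem_powers_iff_mem_zpowers] at h1
    obtain ⟨i, hi⟩ := h1
    have h3 : DistribMulAction.toAddMonoidEnd C S₀ t =
        DistribMulAction.toAddMonoidEnd C S₀ z₀ ^ i := by
      have hval : ∀ x : Z, ((fZ x : R) : AddMonoid.End S₀) =
          DistribMulAction.toAddMonoidEnd C S₀ ⟨(x : H), hZC x.2⟩ := fun x =>
        AddMonoidHom.ext fun w => Subtype.ext (hfZ x w)
      have hi' : fZ ⟨x₀, hx₀⟩ ^ i = fZ ⟨(t : H), ht⟩ := hi
      have h4 : ((fZ ⟨x₀, hx₀⟩ : R) : AddMonoid.End S₀) ^ i =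
          ((fZ ⟨(t : H), ht⟩ : R) : AddMonoid.End S₀) := by
        rw [← hi', Units.val_pow_eq_pow_val, SubmonoidClass.coe_pow]
      rw [hval, hval] at h4
      exact h4.symm
    rw [SetLike.mem_coe, h3]
    exact pow_mem (Subring.subset_closure (Set.mem_singleton
      (DistribMulAction.toAddMonoidEnd C S₀ z₀))) i
  have hq128 : 128 ≤ ringCard S₀ z₀ := by
    refine le_trans (card_ge_of_order hp h79 ((fZ ⟨x₀, hx₀⟩ : Rˣ) : R) ?_) hq
    rw [orderOf_units, hordp _ ⟨_, rfl⟩ hfx₀]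
  have hz₀ : ∀ (g : C) (w : S₀), g • z₀ • w = z₀ • g • w := fun g w => by
    rw [← mul_smul, ← mul_smul, hCZ g z₀ hx₀]
  obtain ⟨A₀, hA₀, hY⟩ := hasAbelian hirr0 hz₀ hq128
  -- an independent family of translates
  let Ind : Set (Finset H) := {J | ∀ f : H → S₀, (∑ j ∈ J, j • (f j : V)) = 0 → ∀ j ∈ J, f j = 0}
  obtain ⟨J, -, ⟨hJ, hJmax⟩⟩ := (Set.toFinite Ind).exists_le_maximal
    (show (∅ : Finset H) ∈ Ind from fun f _ j hj => absurd hj (Finset.notMem_empty j))
  let U : AddSubgroup V :=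
    { carrier := {v | ∃ f : H → S₀, (∑ j ∈ J, j • (f j : V)) = v}
      add_mem' := by
        rintro _ _ ⟨f, rfl⟩ ⟨g, rfl⟩
        exact ⟨f + g, by simp [smul_add, Finset.sum_add_distrib]⟩
      zero_mem' := ⟨0, by simp⟩
      neg_mem' := by
        rintro _ ⟨f, rfl⟩
        exact ⟨-f, by simp [smul_neg]⟩ }
  have hUC : ∀ c ∈ C, ∀ v ∈ U, c • v ∈ U := by
    rintro c hc' _ ⟨f, rfl⟩
    refine ⟨fun j => (⟨j⁻¹ * c * j, by simpa using hCn.conj_mem c hc' j⁻¹⟩ : C) • f j, ?_⟩
    rw [Finset.smul_sum]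
    refine Finset.sum_congr rfl fun j _ => ?_
    change j • (j⁻¹ * c * j) • (f j : V) = c • j • (f j : V)
    rw [smul_smul, smul_smul]
    congr 1
    group
  have htrans : ∀ (g : H) (w : S₀), g • (w : V) ∈ U := by
    intro g w
    let U' : AddSubgroup S₀ :=
      { carrier := {w | g • (w : V) ∈ U}
        add_mem' := fun {a b} ha hb => by
          change g • ((a : V) + b) ∈ U
          rw [smul_add]; exact U.add_mem ha hb
        zero_mem' := by change g • (0 : V) ∈ U; rw [smul_zero]; exact U.zero_mem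
        neg_mem' := fun {a} ha => by
          change g • (-(a : V)) ∈ U
          rw [smul_neg]; exact U.neg_mem ha }
    rcases hirr0.2 U' (fun c u hu => by
        change g • (c : H) • (u : V) ∈ U
        have h1 := hUC _ (hCn.conj_mem _ c.2 g) _ hu
        rwa [smul_smul, inv_mul_cancel_right, mul_smul] at h1) with h | h
    swap
    · exact (h ▸ AddSubgroup.mem_top w : w ∈ U')
    have hgJ : g ∉ J := fun hg => by
      obtain ⟨u, hu⟩ := exists_ne (0 : S₀)
      have h1 : u ∈ U' := ⟨Pi.single g u, by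
        rw [Finset.sum_eq_single_of_mem g hg fun j _ hne => by
          rw [Pi.single_eq_of_ne hne]; simp, Pi.single_eq_same]⟩
      rw [h, AddSubgroup.mem_bot] at h1
      exact hu h1
    refine absurd (hJmax (y := insert g J) ?_ (Finset.subset_insert g J) (Finset.mem_insert_self g J)) hgJ
    intro f hf
    rw [Finset.sum_insert hgJ] at hf
    have h1 : f g ∈ U' := by
      change g • (f g : V) ∈ U
      rw [eq_neg_of_add_eq_zero_left hf]
      exact U.neg_mem ⟨f, rfl⟩
    rw [h, AddSubgroup.mem_bot] at h1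
    rw [h1, AddSubgroup.coe_zero, smul_zero, zero_add] at hf
    intro j hj
    rcases Finset.mem_insert.1 hj with rfl | hj'
    · exact h1
    · exact hJ f hf j hj'
  have hUtop : ∀ v : V, v ∈ U := by
    let W : AddSubgroup V :=
      { carrier := {v | ∀ g : H, g • v ∈ U}
        add_mem' := fun {a b} ha hb g => by rw [smul_add]; exact U.add_mem (ha g) (hb g)
        zero_mem' := fun g => by rw [smul_zero]; exact U.zero_mem
        neg_mem' := fun {a} ha g => by rw [smul_neg]; exact U.neg_mem (ha g) }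
    rcases hirr.2 W (fun g v hv g' => by rw [smul_smul]; exact hv _) with h | h
    · exfalso
      refine hS0 ((AddSubgroup.eq_bot_iff_forall _).2 fun w hw => ?_)
      have h1 : w ∈ W := fun g => htrans g ⟨w, hw⟩
      rwa [h, AddSubgroup.mem_bot] at h1
    · intro v
      have h1 := (h ▸ AddSubgroup.mem_top v : v ∈ W) 1
      rwa [one_smul] at h1
  have hcardV : Nat.card S₀ ^ J.card ≤ Nat.card V := by
    rw [← Nat.card_eq_finsetCard J, ← Nat.card_fun]
    let ext' : (J → S₀) → H → S₀ := fun f j => if h : j ∈ J then f ⟨j, h⟩ else 0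
    refine Nat.card_le_card_of_injective
      (fun f => ∑ j ∈ J, j • (ext' f j : V)) fun f g h => funext fun j => ?_
    have h1 := hJ (fun i => ext' f i - ext' g i) (by
      simpa [smul_sub, Finset.sum_sub_distrib, sub_eq_zero] using h) j j.2
    simpa [ext', sub_eq_zero] using h1
  -- homomorphisms of the scalars of `Z`
  let E := scalars V Z
  have hlift : ∀ x : E, ∃ y : R, ∀ w : S₀,
      (x : AddMonoid.End V) (w : V) = ((y : AddMonoid.End S₀) w : V) := by
    rintro ⟨x, hx⟩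
    induction hx using Subring.closure_induction with
    | mem a ha =>
      obtain ⟨t, ht, rfl⟩ := ha
      exact ⟨toScalar S₀ Zc ⟨⟨t, hZC ht⟩, ht⟩, fun w => rfl⟩
    | zero => exact ⟨0, fun w => rfl⟩
    | one => exact ⟨1, fun w => rfl⟩
    | add a b _ _ ha hb =>
      obtain ⟨a', hea⟩ := ha
      obtain ⟨b', heb⟩ := hb
      exact ⟨a' + b', fun w => by
        change a (w : V) + b (w : V) = _
        rw [hea, heb]; rfl⟩
    | neg a _ ha =>
      obtain ⟨a', hea⟩ := ha
      exact ⟨-a', fun w => by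
        change -a (w : V) = _
        rw [hea]; rfl⟩
    | mul a b _ _ ha hb =>
      obtain ⟨a', hea⟩ := ha
      obtain ⟨b', heb⟩ := hb
      exact ⟨a' * b', fun w => by
        change a (b (w : V)) = _
        rw [heb, hea]; rfl⟩
  choose res hres using hlift
  have huniq : ∀ (x : E) (y : R),
      (∀ w : S₀, (x : AddMonoid.End V) (w : V) = ((y : AddMonoid.End S₀) w : V)) → res x = y :=
    fun x y h => Subtype.ext (AddMonoidHom.ext fun w => Subtype.ext ((hres x w).symm.trans (h w)))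
  let conjE : H → E → E := fun g x => ⟨cnj g x, cnj_mem_scalars x.2 g⟩
  have hφ : ∀ (g : H) (x : E) (w : S₀),
      ((res (conjE g⁻¹ x) : AddMonoid.End S₀) w : V) =
        g⁻¹ • (x : AddMonoid.End V) (g • (w : V)) := fun g x w => by
    rw [← hres]
    change g⁻¹ • (x : AddMonoid.End V) (g⁻¹⁻¹ • (w : V)) = _
    rw [inv_inv]
  let φ : H → E →+* R := fun g =>
    { toFun := fun x => res (conjE g⁻¹ x)
      map_one' := huniq _ 1 fun w => by
        change g⁻¹ • g⁻¹⁻¹ • (w : V) = w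
        rw [smul_inv_smul]
      map_zero' := huniq _ 0 fun w => smul_zero _
      map_add' := fun x y => huniq _ _ fun w => by
        change g⁻¹ • ((x : AddMonoid.End V) (g⁻¹⁻¹ • (w : V)) + (y : AddMonoid.End V) (g⁻¹⁻¹ • (w : V))) =
          ((res (conjE g⁻¹ x) : AddMonoid.End S₀) w : V) + ((res (conjE g⁻¹ y) : AddMonoid.End S₀) w : V)
        rw [inv_inv, hφ, hφ, smul_add]
      map_mul' := fun x y => huniq _ _ fun w => by
        change g⁻¹ • (x : AddMonoid.End V) ((y : AddMonoid.End V) (g⁻¹⁻¹ • (w : V))) =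
          (((res (conjE g⁻¹ x) : AddMonoid.End S₀)) ((res (conjE g⁻¹ y) : AddMonoid.End S₀) w) : V)
        rw [inv_inv, hφ, hφ, smul_inv_smul] }
  let St := centMod Z M₀ hMZ
  let N := Subgroup.normalizer (M₀ : Set H)
  have hm : 2 ^ St.index ≤ Nat.card E := by
    rw [Subgroup.index_eq_card]
    refine two_pow_le_card (fun q : H ⧸ St => φ q.out) fun a b hab => ?_
    rw [← QuotientGroup.out_eq' a, ← QuotientGroup.out_eq' b, eq_comm, QuotientGroup.eq,
      mem_centMod]
    intro y hy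
    have hh : b.out⁻¹ * a.out * y * (b.out⁻¹ * a.out)⁻¹ ∈ Z := hZn.conj_mem y hy _
    refine ⟨mul_mem hh (inv_mem hy), fun w hw => ?_⟩
    let X : E := ⟨DistribMulAction.toAddMonoidEnd H V (a.out * y * a.out⁻¹),
      Subring.subset_closure ⟨_, hZn.conj_mem y hy a.out, rfl⟩⟩
    have hw' : y⁻¹ • w ∈ S₀ := hSC _ (hZC (inv_mem hy)) w hw
    have h1 : ((φ a.out X : AddMonoid.End S₀) ⟨_, hw'⟩ : V) =
        ((φ b.out X : AddMonoid.End S₀) ⟨_, hw'⟩ : V) := by rw [show φ a.out X = φ b.out X from DFunLike.congr_fun hab X]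
    rw [show φ a.out X = res (conjE a.out⁻¹ X) from rfl,
      show φ b.out X = res (conjE b.out⁻¹ X) from rfl, hφ, hφ] at h1
    change a.out⁻¹ • (a.out * y * a.out⁻¹) • a.out • y⁻¹ • w =
      b.out⁻¹ • (a.out * y * a.out⁻¹) • b.out • y⁻¹ • w at h1
    rw [smul_smul, smul_smul, smul_smul, smul_smul, smul_smul, smul_smul] at h1
    convert h1.symm using 1
    · congr 1; group
    · group; rw [one_smul]
  have hEq : Nat.card E ≤ ringCard S₀ z₀ ^ J.card := by
    refine le_trans ?_ (Nat.pow_le_pow_left hq _)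
    rw [← Nat.card_eq_finsetCard J, ← Nat.card_fun]
    refine Nat.card_le_card_of_injective (fun x (j : J) => φ j x) fun x y h => ?_
    refine Subtype.ext (AddMonoidHom.ext fun v => ?_)
    obtain ⟨f, rfl⟩ := hUtop v
    change (x : AddMonoid.End V) (∑ j ∈ J, j • (f j : V)) =
      (y : AddMonoid.End V) (∑ j ∈ J, j • (f j : V))
    rw [map_sum, map_sum]
    refine Finset.sum_congr rfl fun j hj => ?_
    have h1 : ((φ j x : AddMonoid.End S₀) (f j) : V) = ((φ j y : AddMonoid.End S₀) (f j) : V) := by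
      rw [show φ j x = φ j y from congrFun h ⟨j, hj⟩]
    rw [show φ j x = res (conjE j⁻¹ x) from rfl, show φ j y = res (conjE j⁻¹ y) from rfl, hφ, hφ] at h1
    exact MulAction.injective j⁻¹ h1
  -- the abelian subgroup
  refine ⟨St.relIndex N, Nat.pos_of_ne_zero Subgroup.index_ne_zero_of_finite,
    card_le_kcard_of_hyperplane Z M₀ hMZ hc hp hidx, fun hk => ?_⟩
  let J₀ : Subgroup H := A₀.map C.subtype
  let A : Subgroup H := C ⊓ ⨅ j : J, J₀.map (MulAut.conj (j : H)).toMonoidHom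
  refine ⟨A, fun a ha b hb => ?_, ?_⟩
  · have ha' := Subgroup.mem_iInf.1 ha.2
    have hb' := Subgroup.mem_iInf.1 hb.2
    refine inv_mul_eq_one.1 (hfaith _ fun v => ?_)
    rw [mul_smul, inv_smul_eq_iff]
    obtain ⟨f, rfl⟩ := hUtop v
    simp only [Finset.smul_sum]
    refine Finset.sum_congr rfl fun j hj => ?_
    obtain ⟨_, ⟨a', haA, rfl⟩, hae⟩ := ha' ⟨j, hj⟩
    obtain ⟨_, ⟨b', hbA, rfl⟩, hbe⟩ := hb' ⟨j, hj⟩
    simp only [MulEquiv.coe_toMonoidHom, MulAut.conj_apply, Subgroup.coe_subtype] at hae hbe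
    rw [← hae, ← hbe]
    have key : (a' : H) • (b' : H) • (f j : V) = (b' : H) • (a' : H) • (f j : V) :=
      congrArg Subtype.val (hA₀ a' haA b' hbA (f j))
    simp only [mul_smul, inv_smul_smul, key]
  have hrel : A.relIndex C ≤ A₀.index ^ J.card := by
    rw [Subgroup.inf_relIndex_left]
    refine (Subgroup.relIndex_iInf_le _).trans ((Finset.prod_le_prod' fun j _ => ?_).trans
      (le_of_eq (by rw [Finset.prod_const, Finset.card_univ, Fintype.card_coe])))
    have hK : C = C.map (MulAut.conj (j : H)).toMonoidHom := by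
      ext x
      constructor
      · intro hx
        exact ⟨(j : H)⁻¹ * x * j, by
          simpa [mul_assoc] using hCn.conj_mem x hx (j : H)⁻¹,
          by simp [MulAut.conj_apply, mul_assoc]⟩
      · rintro ⟨y, hy, rfl⟩
        exact hCn.conj_mem y hy j
    conv_lhs => rw [hK]
    rw [Subgroup.relIndex_map_map_of_injective J₀ C (MulAut.conj (j : H)).injective]
    exact le_of_eq (by simp only [Subgroup.relIndex, Subgroup.subgroupOf, J₀,
      Subgroup.comap_map_eq_self_of_injective (Subgroup.subtype_injective C)])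
  -- the index of the centraliser
  have hCidx : C.index ≤ 3 ^ (N.index - 1) * St.relIndex N ^ N.index := by
    haveI := Fintype.ofFinite (H ⧸ N)
    let K := N.normalCore
    let B : H ⧸ N → Subgroup H := fun q => K ⊓ St.map (MulAut.conj q.out).toMonoidHom
    have hB : ∀ q, (B q).relIndex K ≤ St.relIndex N := by
      intro q
      rw [show B q = K ⊓ St.map (MulAut.conj q.out).toMonoidHom from rfl,
        Subgroup.inf_relIndex_left]
      have hK : K = K.map (MulAut.conj q.out).toMonoidHom := by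
        ext x
        constructor
        · intro hx
          exact ⟨q.out⁻¹ * x * q.out, by
            simpa [mul_assoc] using (Subgroup.normalCore_normal N).conj_mem x hx q.out⁻¹,
            by simp [MulAut.conj_apply, mul_assoc]⟩
        · rintro ⟨y, hy, rfl⟩
          exact (Subgroup.normalCore_normal N).conj_mem y hy q.out
      rw [hK, Subgroup.relIndex_map_map_of_injective St K (MulAut.conj q.out).injective]
      exact Subgroup.relIndex_le_of_le_right N.normalCore_le Subgroup.index_ne_zero_of_finite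
    have hBC : (⨅ q, B q) ≤ C := by
      intro x hx
      rw [Subgroup.mem_iInf] at hx
      rw [Subgroup.mem_centralizer_iff]
      intro y hy
      refine (commutatorElement_eq_one_iff_mul_comm.1 (hfaith ⁅x, y⁆ fun v => ?_)).symm
      obtain ⟨f, rfl⟩ := hUtop v
      simp only [Finset.smul_sum]
      refine Finset.sum_congr rfl fun j _ => ?_
      -- write `j` through its coset
      obtain ⟨⟨n, hn⟩, hjn⟩ := QuotientGroup.mk_out_eq_mul N j
      obtain ⟨s, hs, hsx⟩ := (Subgroup.mem_inf.1 (hx (j : H ⧸ N))).2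
      simp only [MulEquiv.coe_toMonoidHom, MulAut.conj_apply, hjn] at hsx
      have hy' : (j * n)⁻¹ * y * (j * n) ∈ Z := by simpa using hZn.conj_mem y hy (j * n)⁻¹
      have h1 := hs _ hy'
      have hnN : n * (s * ((j * n)⁻¹ * y * (j * n)) * s⁻¹ * ((j * n)⁻¹ * y * (j * n))⁻¹) * n⁻¹ ∈ M₀ :=
        (Subgroup.mem_normalizer_iff.1 hn _).1 h1
      have h2 := hnN.2 (f j : V) (f j).2
      have e : ⁅x, y⁆ * j = j * (n * (s * ((j * n)⁻¹ * y * (j * n)) * s⁻¹ *
          ((j * n)⁻¹ * y * (j * n))⁻¹) * n⁻¹) := by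
        rw [← hsx, commutatorElement_def]; group
      rw [smul_smul, e, mul_smul, h2]
    calc C.index ≤ (⨅ q, B q).index :=
          Nat.le_of_dvd (Nat.pos_of_ne_zero Subgroup.index_ne_zero_of_finite)
            (Subgroup.index_dvd_of_le hBC)
      _ = (⨅ q, B q).relIndex K * K.index :=
          (Subgroup.relIndex_mul_index ((iInf_le B ((1 : H) : H ⧸ N)).trans inf_le_left)).symm
      _ ≤ St.relIndex N ^ N.index * 3 ^ (N.index - 1) := by
          refine Nat.mul_le_mul ((Subgroup.relIndex_iInf_le _).trans ?_) ?_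
          · refine (Finset.prod_le_prod' fun q _ => hB q).trans (le_of_eq ?_)
            rw [Finset.prod_const, Finset.card_univ, ← Nat.card_eq_fintype_card,
              ← Subgroup.index_eq_card]
          · have h := index_ker_le N.index H N le_rfl
            rwa [← Subgroup.index_eq_card] at h
      _ = _ := mul_comm _ _
  refine lines_arith hk (Nat.pos_of_ne_zero (Subgroup.index_ne_zero_of_finite (H := N))) ?_ ?_ hY hcardV
  · rw [← Subgroup.relIndex_mul_index (inf_le_left : A ≤ C), mul_comm]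
    exact Nat.mul_le_mul hCidx hrel
  · rw [Subgroup.relIndex_mul_index (centMod_le_normalizer hMZ)]
    exact hm.trans hEq

end Cfsg.Agent.H88.ClassBound
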