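import Mathlib
import Cfsg.Prelude.Def_Solvable
import Cfsg.Agent.H88.ClassBound.Lines
import Cfsg.Agent.H77.FittingClass

/-!
# Classes of a solvable group with a prime dividing the index of the Fitting subgroup
-/

set_option autoImplicit false
set_option linter.unusedSectionVars false

namespace Cfsg.Agent.H88.ClassBound

open Cfsg.Agent.H10.BaseThree

universe u

/-- Two logarithms of the bound. -/
theorem le_of_two_pow_le {p c : ℕ} (hp : 2 ≤ p) (h : 2 ^ p ≤ p ^ c) :
    (p : ℝ) / (3 * Real.logb 2 p) ≤ (c : ℝ) / 3 := by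
  have hpR : (1 : ℝ) < p := by exact_mod_cast hp
  have hL : 0 < Real.logb 2 p := Real.logb_pos one_lt_two hpR
  have h1 : ((2 : ℝ) ^ p) ≤ (p : ℝ) ^ c := by exact_mod_cast h
  have h2 := Real.logb_le_logb_of_le one_lt_two (by positivity) h1
  rw [Real.logb_pow, Real.logb_pow, Real.logb_self_eq_one one_lt_two, mul_one] at h2
  rw [div_le_div_iff₀ (by positivity) (by norm_num)]
  nlinarith

theorem bound_of_few {p K k : ℕ} (hp : 2 ≤ p) (h : p ≤ k * K)
    (hk : (k : ℝ) ≤ 3 * Real.logb 2 p) : (p : ℝ) / (3 * Real.logb 2 p) ≤ K := by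
  have hpR : (1 : ℝ) < p := by exact_mod_cast hp
  have hL : 0 < Real.logb 2 p := Real.logb_pos one_lt_two hpR
  rw [div_le_iff₀ (by positivity)]
  calc (p : ℝ) ≤ (k : ℝ) * K := by exact_mod_cast h
    _ ≤ 3 * Real.logb 2 p * K := by gcongr
    _ = (K : ℝ) * (3 * Real.logb 2 p) := by ring

theorem six_le_logb {p : ℕ} (hp : 79 ≤ p) : 6 ≤ Real.logb 2 p := by
  rw [Real.le_logb_iff_rpow_le one_lt_two (by exact_mod_cast (show 0 < p by omega))]
  norm_num
  exact_mod_cast (show 64 ≤ p by omega)

theorem bound_of_many {p K k : ℕ} (hp : 79 ≤ p) (hk : 3 * Real.logb 2 p < k)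
    (h : 2 ^ k ≤ (K * k) ^ 3) : (p : ℝ) / (3 * Real.logb 2 p) ≤ K := by
  set L := Real.logb 2 p with hLdef
  have hL : 6 ≤ L := six_le_logb hp
  have hp0 : (0 : ℝ) < p := by exact_mod_cast (show 0 < p by omega)
  set x := (k : ℝ) / 3 with hx
  have hkx : (k : ℝ) = 3 * x := by rw [hx]; ring
  have hxL : L ≤ x := by rw [hx]; linarith
  have h2x : (2 : ℝ) ^ x ≤ (K : ℝ) * k := by
    have e : ((2 : ℝ) ^ x) ^ 3 = (2 : ℝ) ^ k := by
      rw [← Real.rpow_natCast ((2 : ℝ) ^ x) 3, ← Real.rpow_mul (by norm_num), hx]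
      norm_num
    refine le_of_pow_le_pow_left₀ (n := 3) (by norm_num) (by positivity) ?_
    rw [e]
    exact_mod_cast h
  have hpx : (p : ℝ) * (x / L) ≤ (2 : ℝ) ^ x := by
    have e : (2 : ℝ) ^ x = (p : ℝ) * (2 : ℝ) ^ (x - L) := by
      rw [Real.rpow_sub (by norm_num), hLdef, Real.rpow_logb (by norm_num) (by norm_num) hp0]
      field_simp
    rw [e]
    refine mul_le_mul_of_nonneg_left ?_ hp0.le
    have h1 : 1 + (x - L) * Real.log 2 ≤ (2 : ℝ) ^ (x - L) := by
      rw [Real.rpow_def_of_pos (by norm_num)]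
      have := Real.add_one_le_exp (Real.log 2 * (x - L))
      linarith
    refine le_trans ?_ h1
    have hlog : (1 / 6 : ℝ) ≤ Real.log 2 := by
      have := Real.one_sub_inv_le_log_of_pos (show (0 : ℝ) < 2 by norm_num)
      norm_num at this ⊢
      linarith
    rw [div_le_iff₀ (by linarith)]
    have hlL : (1 : ℝ) ≤ Real.log 2 * L := by nlinarith
    nlinarith
  rw [hkx] at h2x
  have hx0 : 0 < x := lt_of_lt_of_le (by linarith) hxL
  have h3 := le_trans hpx h2x
  rw [mul_div_assoc', div_le_iff₀ (by linarith)] at h3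
  rw [div_le_iff₀ (by linarith)]
  nlinarith

theorem large_case : ∀ (n : ℕ) (G : Type u) [Group G] [Finite G], Nat.card G = n →
    Group.IsSolvable G → ∀ p : ℕ, p.Prime → 79 ≤ p → p ∣ (Cfsg.fittingSubgroup G).index →
    (p : ℝ) / (3 * Real.logb 2 p) ≤ Nat.card (ConjClasses G) := by
  intro n
  induction n using Nat.strong_induction_on with
  | _ n ih =>
    intro G _ _ hn hG p hp h79 hdvd
    classical
    haveI := hG
    haveI := Fact.mk hp
    haveI : Nontrivial G := by
      by_contra hcon
      rw [not_nontrivial_iff_subsingleton] at hcon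
      have h1 : (Cfsg.fittingSubgroup G).index = 1 :=
        Subgroup.index_eq_one.2 (Subsingleton.elim _ _)
      rw [h1, Nat.dvd_one] at hdvd
      exact hp.ne_one hdvd
    -- a minimal normal subgroup
    obtain ⟨N, -, ⟨⟨hNn, hN1⟩, hNmin⟩⟩ :=
      (Set.toFinite {N : Subgroup G | N.Normal ∧ N ≠ ⊥}).exists_le_minimal
        (show (⊤ : Subgroup G) ∈ {N : Subgroup G | N.Normal ∧ N ≠ ⊥} from
          ⟨inferInstance, fun h => top_ne_bot h⟩)
    haveI := hNn
    have hmin : ∀ M : Subgroup G, M.Normal → M ≤ N → M = ⊥ ∨ M = N := fun M hM hle =>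
      or_iff_not_imp_left.2 fun h1 => le_antisymm hle (hNmin ⟨hM, h1⟩ hle)
    obtain ⟨A, hAN, hAn, hA1, hAc⟩ := exists_abelian_normal_le hN1
    have hNc : ∀ a ∈ N, ∀ b ∈ N, a * b = b * a := by
      rcases hmin A hAn hAN with h | h
      · exact absurd h hA1
      · exact h ▸ hAc
    by_cases hquot : p ∣ (Cfsg.fittingSubgroup (G ⧸ N)).index
    · have hlt : Nat.card (G ⧸ N) < n := by
        rw [← hn, Subgroup.card_eq_card_quotient_mul_card_subgroup N]
        exact lt_mul_of_one_lt_right Nat.card_pos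
          (Subgroup.one_lt_card_iff_ne_bot N |>.2 hN1)
      refine (ih _ hlt (G ⧸ N) rfl (solvable_of_surjective (QuotientGroup.mk'_surjective N)) p hp
        h79 hquot).trans ?_
      exact_mod_cast Nat.card_le_card_of_surjective _
        (ConjClasses.map_surjective (QuotientGroup.mk'_surjective N))
    -- the Sylow subgroup becomes normal in the quotient
    let P : Sylow p G := default
    let π := QuotientGroup.mk' N
    have hπ : Function.Surjective π := QuotientGroup.mk'_surjective N
    let Q : Sylow p (G ⧸ N) := P.mapSurjective hπ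
    let F := Cfsg.fittingSubgroup (G ⧸ N)
    haveI hFnil : Group.IsNilpotent F := Cfsg.Agent.H77.fitting_normal_nilpotent.2
    haveI hFn : F.Normal := Cfsg.Agent.H77.fitting_normal_nilpotent.1
    have hQF : (Q : Subgroup (G ⧸ N)) ≤ F := by
      intro x hx
      obtain ⟨k, hk⟩ := Q.2 ⟨x, hx⟩
      have hk' : x ^ p ^ k = 1 := congrArg Subtype.val hk
      have h1 : orderOf (x : (G ⧸ N) ⧸ F) ∣ p ^ k := orderOf_dvd_of_pow_eq_one (by
        rw [← QuotientGroup.mk_pow, hk', QuotientGroup.mk_one])
      have h2 : orderOf (x : (G ⧸ N) ⧸ F) ∣ F.index :=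
        Subgroup.index_eq_card F ▸ orderOf_dvd_natCard _
      obtain ⟨j, -, hj⟩ := (Nat.dvd_prime_pow hp).1 h1
      rw [hj] at h2
      rcases Nat.eq_zero_or_pos j with rfl | hj0
      · exact (QuotientGroup.eq_one_iff x).1 (orderOf_eq_one_iff.1 (by rw [hj, pow_zero]))
      · exact absurd ((dvd_pow_self p hj0.ne').trans h2) hquot
    let QF : Sylow p F := Q.subtype hQF
    haveI : (QF : Subgroup F).Normal := Sylow.normal_of_normalizerCondition
      Group.normalizerCondition_of_isNilpotent QF
    haveI : (QF : Subgroup F).Characteristic := Sylow.characteristic_of_normal QF inferInstance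
    have hQn : (Q : Subgroup (G ⧸ N)).Normal := by
      have h1 : ((QF : Subgroup F).map F.subtype).Normal := inferInstance
      rwa [show (QF : Subgroup F).map F.subtype = (Q : Subgroup (G ⧸ N)) from
        Subgroup.map_subgroupOf_eq_of_le hQF] at h1
    have hPN : ∀ g : G, ∀ a ∈ (P : Subgroup G),
        ∃ b ∈ (P : Subgroup G), ∃ m ∈ N, g * a * g⁻¹ = b * m := by
      intro g a ha
      have h1 : π (g * a * g⁻¹) ∈ (Q : Subgroup (G ⧸ N)) := by
        rw [map_mul, map_mul, map_inv]
        exact hQn.conj_mem _ ⟨a, ha, rfl⟩ _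
      obtain ⟨b, hb, hbe⟩ := h1
      exact ⟨b, hb, b⁻¹ * (g * a * g⁻¹), QuotientGroup.eq.1 hbe, (mul_inv_cancel_left _ _).symm⟩
    -- a normal Sylow subgroup is impossible
    have hPnot : ¬ (P : Subgroup G).Normal := by
      intro hPn
      haveI : Group.IsNilpotent (P : Subgroup G) := P.2.isNilpotent
      have h1 : (P : Subgroup G) ≤ Cfsg.fittingSubgroup G := le_sSup ⟨hPn, inferInstance⟩
      exact P.not_dvd_index (hdvd.trans (Subgroup.index_dvd_of_le h1))
    -- the elementary abelian structure of `N`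
    obtain ⟨r, hr, hrdvd⟩ := Nat.exists_prime_and_dvd
      (Subgroup.one_lt_card_iff_ne_bot N |>.2 hN1).ne'
    haveI := Fact.mk hr
    have hNr : ∀ x ∈ N, x ^ r = 1 := by
      let M : Subgroup G :=
        { carrier := {x | x ∈ N ∧ x ^ r = 1}
          mul_mem' := fun {a b} ha hb => ⟨mul_mem ha.1 hb.1, by
            rw [(show Commute a b from hNc a ha.1 b hb.1).mul_pow, ha.2, hb.2, one_mul]⟩
          one_mem' := ⟨one_mem N, one_pow r⟩
          inv_mem' := fun {a} ha => ⟨inv_mem ha.1, by rw [inv_pow, ha.2, inv_one]⟩ }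
      have hMn : M.Normal := ⟨fun x hx g => ⟨hNn.conj_mem x hx.1 g, by rw [conj_pow, hx.2]; group⟩⟩
      rcases hmin M hMn (fun x hx => hx.1) with h | h
      · obtain ⟨x, hx⟩ := exists_prime_orderOf_dvd_card' (G := N) r hrdvd
        have h1 : (x : G) ∈ M := ⟨x.2, by
          rw [← Subgroup.coe_pow, ← hx, pow_orderOf_eq_one, Subgroup.coe_one]⟩
        rw [h, Subgroup.mem_bot] at h1
        rw [show x = 1 from Subtype.ext h1, orderOf_one] at hx
        exact absurd hx.symm hr.ne_one
      · intro x hx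
        exact ((show N ≤ M from h.ge) hx).2
    have hrp : r ≠ p := by
      intro e
      subst e
      have hNp : IsPGroup r N := fun x => ⟨1, Subtype.ext (by simpa using hNr x x.2)⟩
      have hNP : N ≤ (P : Subgroup G) := le_sup_right.trans
        (P.3 (P.2.to_sup_of_normal_right hNp) le_sup_left).le
      refine hPnot ⟨fun a ha g => ?_⟩
      obtain ⟨b, hb, m, hm, e⟩ := hPN g a ha
      rw [e]
      exact mul_mem hb (hNP hm)
    -- the action on `N`
    letI : CommGroup N :=
      { (inferInstance : Group N) with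
        mul_comm := fun a b => Subtype.ext (hNc a a.2 b b.2) }
    let cN : G → N → N := fun g x => ⟨g * (x : G) * g⁻¹, hNn.conj_mem x x.2 g⟩
    let φ : G →* AddMonoid.End (Additive N) :=
      { toFun := fun g =>
          { toFun := fun x => Additive.ofMul (cN g (Additive.toMul x))
            map_zero' := congrArg Additive.ofMul (Subtype.ext (by simp [cN]))
            map_add' := fun x y => congrArg Additive.ofMul
              (Subtype.ext (by simp [cN, mul_assoc])) }
        map_one' := AddMonoidHom.ext fun x =>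
          congrArg Additive.ofMul (Subtype.ext (by simp [cN]; rfl))
        map_mul' := fun g h => AddMonoidHom.ext fun x =>
          congrArg Additive.ofMul (Subtype.ext (by simp [cN, mul_assoc]; rfl)) }
    let C := φ.ker
    haveI hCn : C.Normal := MonoidHom.normal_ker φ
    have hcent : ∀ c ∈ C, ∀ x ∈ N, c * x = x * c := by
      intro c hc x hx
      have h1 := DFunLike.congr_fun (show φ c = 1 from hc) (Additive.ofMul (⟨x, hx⟩ : N))
      have h2 : c * x * c⁻¹ = x := congrArg (fun y => ((Additive.toMul y : N) : G)) h1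
      calc c * x = c * x * c⁻¹ * c := by group
        _ = x * c := by rw [h2]
    have hNC : N ≤ C := fun x hx => AddMonoidHom.ext fun y => congrArg Additive.ofMul (Subtype.ext (by
      change x * ((Additive.toMul y : N) : G) * x⁻¹ = ((Additive.toMul y : N) : G)
      rw [hNc x hx _ (SetLike.coe_mem _), mul_inv_cancel_right]))
    let H := G ⧸ C
    letI : DistribMulAction H (Additive N) :=
      DistribMulAction.compHom (M := AddMonoid.End (Additive N)) (Additive N)
        (QuotientGroup.lift C φ le_rfl)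
    haveI : Group.IsSolvable H := solvable_of_surjective (QuotientGroup.mk'_surjective C)
    have hirr : Irred H (Additive N) := by
      haveI : Nontrivial N := (Subgroup.nontrivial_iff_ne_bot N).2 hN1
      refine ⟨inferInstance, fun U hU => ?_⟩
      let M : Subgroup G := (AddSubgroup.toSubgroup' U).map N.subtype
      have hMn : M.Normal := ⟨by
        rintro _ ⟨x, hx, rfl⟩ g
        exact ⟨cN g x, hU (g : H) (Additive.ofMul x) hx, rfl⟩⟩
      rcases hmin M hMn (Subgroup.map_subtype_le _) with h | h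
      · refine Or.inl ((AddSubgroup.eq_bot_iff_forall _).2 fun x hx => ?_)
        have h1 : ((Additive.toMul x : N) : G) ∈ M := ⟨Additive.toMul x, hx, rfl⟩
        rw [h, Subgroup.mem_bot] at h1
        exact congrArg Additive.ofMul (Subtype.ext h1 : Additive.toMul x = 1)
      · refine Or.inr ((AddSubgroup.eq_top_iff' _).2 fun x => ?_)
        obtain ⟨y, hy, hye⟩ := (show N ≤ M from h.ge) (SetLike.coe_mem (Additive.toMul x))
        rw [show x = Additive.ofMul y from congrArg Additive.ofMul (Subtype.ext hye).symm]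
        exact hy
    have hfaith : ∀ g : H, (∀ x : Additive N, g • x = x) → g = 1 := by
      intro g hg
      induction g using QuotientGroup.induction_on with
      | _ g => exact (QuotientGroup.eq_one_iff g).2 (AddMonoidHom.ext hg)
    -- the image of the Sylow subgroup
    let R := (P : Subgroup G).map (QuotientGroup.mk' C)
    have hRn : R.Normal := ⟨by
      rintro _ ⟨a, ha, rfl⟩ x
      obtain ⟨g, rfl⟩ := QuotientGroup.mk'_surjective C x
      obtain ⟨b, hb, m, hm, e⟩ := hPN g a ha
      refine ⟨b, hb, ?_⟩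
      rw [← map_inv, ← map_mul, ← map_mul, e, map_mul,
        show QuotientGroup.mk' C m = 1 from (QuotientGroup.eq_one_iff m).2 (hNC hm), mul_one]⟩
    have hRp : IsPGroup p R := P.2.map _
    haveI : Nontrivial R := by
      refine (Subgroup.nontrivial_iff_ne_bot R).2 fun hR => hPnot ⟨fun a ha g => ?_⟩
      have hPC : ∀ x ∈ (P : Subgroup G), x ∈ C := fun x hx => by
        have h1 : QuotientGroup.mk' C x ∈ R := ⟨x, hx, rfl⟩
        rw [hR, Subgroup.mem_bot] at h1
        exact (QuotientGroup.eq_one_iff x).1 h1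
      obtain ⟨b, hb, m, hm, e⟩ := hPN g a ha
      obtain ⟨k, hk⟩ := P.2 ⟨a, ha⟩
      obtain ⟨j, hj⟩ := P.2 ⟨b, hb⟩
      have hk' : a ^ p ^ k = 1 := congrArg Subtype.val hk
      have hj' : b ^ p ^ j = 1 := congrArg Subtype.val hj
      have h1 : m ^ (p ^ k * p ^ j) = 1 := by
        have h2 : (b * m) ^ (p ^ k * p ^ j) = 1 := by
          rw [← e, conj_pow, pow_mul, hk', one_pow]; group
        rwa [(show Commute b m from hcent b (hPC b hb) m hm).mul_pow, mul_comm (p ^ k), pow_mul b,
          hj', one_pow, one_mul, mul_comm (p ^ j)] at h2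
      have h3 := pow_gcd_eq_one.2 ⟨h1, hNr m hm⟩
      rw [← pow_add, Nat.Coprime.pow_left _ ((Nat.coprime_primes hp hr).2 (Ne.symm hrp)),
        pow_one] at h3
      rw [e, h3, mul_one]
      exact hb
    -- the elementary abelian normal subgroup
    let Z : Subgroup H :=
      { carrier := {x | x ∈ R ∧ (∀ y ∈ R, y * x = x * y) ∧ x ^ p = 1}
        mul_mem' := fun {a b} ha hb => ⟨mul_mem ha.1 hb.1, fun y hy => by
            rw [← mul_assoc, ha.2.1 y hy, mul_assoc, hb.2.1 y hy, mul_assoc], by
            rw [(show Commute a b from hb.2.1 a ha.1).mul_pow, ha.2.2, hb.2.2, one_mul]⟩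
        one_mem' := ⟨one_mem R, fun y _ => by rw [mul_one, one_mul], one_pow p⟩
        inv_mem' := fun {a} ha => ⟨inv_mem ha.1,
          fun y hy => (Commute.inv_right (show Commute y a from ha.2.1 y hy)).eq,
          by rw [inv_pow, ha.2.2, inv_one]⟩ }
    haveI hZn : Z.Normal := ⟨fun x hx g => ⟨hRn.conj_mem x hx.1 g, fun y hy => by
        have h1 := hx.2.1 _ (by simpa using hRn.conj_mem y hy g⁻¹ : g⁻¹ * y * g ∈ R)
        calc y * (g * x * g⁻¹) = g * (g⁻¹ * y * g * x) * g⁻¹ := by group
          _ = g * (x * (g⁻¹ * y * g)) * g⁻¹ := by rw [h1]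
          _ = g * x * g⁻¹ * y := by group,
      by rw [conj_pow, hx.2.2]; group⟩⟩
    have hZ1 : Z ≠ ⊥ := by
      haveI : Nontrivial (Subgroup.center R) := hRp.center_nontrivial
      obtain ⟨j, hj0, hj⟩ := (hRp.to_subgroup (Subgroup.center R)).nontrivial_iff_card.1 inferInstance
      obtain ⟨x, hx⟩ := exists_prime_orderOf_dvd_card' (G := Subgroup.center R) p
        (hj ▸ dvd_pow_self p hj0.ne')
      intro hbot
      have h1 : ((x : R) : H) ∈ Z := ⟨(x : R).2,
        fun y hy => congrArg Subtype.val (Subgroup.mem_center_iff.1 x.2 ⟨y, hy⟩), by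
          rw [← Subgroup.coe_pow, ← Subgroup.coe_pow, ← hx, pow_orderOf_eq_one]; rfl⟩
      rw [hbot, Subgroup.mem_bot] at h1
      rw [show x = 1 from Subtype.ext (Subtype.ext h1), orderOf_one] at hx
      exact hp.ne_one hx.symm
    obtain ⟨k, hk1, hkH, hA⟩ := core hirr hfaith Z hZ1 (fun a ha b hb => hb.2.1 a ha.1) hp h79
      (fun x hx => hx.2.2)
    obtain ⟨o, ho, hoK⟩ := exists_classes N C hNC hcent
    set K := Nat.card (ConjClasses G) with hK
    rcases le_or_gt (k : ℝ) (3 * Real.logb 2 p) with hle | hgt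
    · exact bound_of_few (by omega)
        (hkH.trans (Nat.mul_le_mul_left k ((Nat.le_add_right _ o).trans hoK))) hle
    refine bound_of_many h79 hgt ?_
    have h18 : 18 ≤ k := by
      have := six_le_logb h79
      have h1 : (18 : ℝ) ≤ k := by linarith
      exact_mod_cast h1
    obtain ⟨A', hA'c, hA'i⟩ := hA h18
    have hkey : Nat.card (Additive N) ≤ A'.index ^ 2 * K ^ 2 := by
      rw [Nat.card_congr Additive.toMul]
      have hv2 : 2 ≤ Nat.card N := Subgroup.one_lt_card_iff_ne_bot N |>.2 hN1
      have h1 := card_le_index_mul_kcard A' hA'c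
      have h2 : C.index = Nat.card A' * A'.index := (Subgroup.card_mul_index A').symm
      rw [h2] at ho
      have h3 : Nat.card N - 1 ≤ A'.index ^ 2 * (o * Nat.card (ConjClasses H)) :=
        calc Nat.card N - 1 ≤ o * (Nat.card A' * A'.index) := ho
          _ ≤ o * (A'.index * Nat.card (ConjClasses H) * A'.index) := by gcongr
          _ = _ := by ring
      have h4 : 4 * (o * Nat.card (ConjClasses H)) ≤ K ^ 2 := by
        have := Nat.pow_le_pow_left hoK 2
        nlinarith [four_mul_le_sq_add (o : ℤ) (Nat.card (ConjClasses H) : ℤ)]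
      calc Nat.card N ≤ 4 * (Nat.card N - 1) := by omega
        _ ≤ 4 * (A'.index ^ 2 * (o * Nat.card (ConjClasses H))) := by gcongr
        _ = A'.index ^ 2 * (4 * (o * Nat.card (ConjClasses H))) := by ring
        _ ≤ A'.index ^ 2 * K ^ 2 := by gcongr
    have h6 : (2 ^ k) ^ 2 ≤ ((K * k) ^ 3) ^ 2 := by
      refine le_of_mul_le_mul_left ?_
        (Nat.pos_of_ne_zero (pow_ne_zero 6 (Subgroup.index_ne_zero_of_finite (H := A'))))
      rw [← pow_mul, mul_comm k 2, pow_mul, show (2 : ℕ) ^ 2 = 4 by norm_num]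
      refine hA'i.trans ((Nat.mul_le_mul_right _ (Nat.pow_le_pow_left hkey 3)).trans (le_of_eq ?_))
      ring
    exact (Nat.pow_le_pow_iff_left two_ne_zero).1 h6

theorem class_number_bound {G : Type u} [Group G] [Finite G] (hG : Group.IsSolvable G) (p : ℕ)
    (hp : p.Prime) (hdvd : p ∣ (Cfsg.fittingSubgroup G).index) :
    (p : ℝ) / (3 * Real.logb 2 p) ≤ Nat.card (ConjClasses G) := by
  rcases Nat.lt_or_ge p 79 with hlt | hge
  · have hK1 : 1 ≤ Nat.card (ConjClasses G) := Nat.card_pos
    rcases Nat.lt_or_ge p 7 with h7 | h7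
    · have h : 2 ^ p ≤ p ^ 3 := by
        have := hp.two_le
        interval_cases p <;> first | (norm_num; done) | exact absurd hp (by norm_num)
      refine (le_of_two_pow_le hp.two_le h).trans ?_
      norm_num
      exact_mod_cast hK1
    · have hG7 : 7 ≤ Nat.card G :=
        h7.trans (Nat.le_of_dvd Nat.card_pos (hdvd.trans (Subgroup.index_dvd_card _)))
      have hK4 : 4 ≤ Nat.card (ConjClasses G) := by
        by_contra hc
        have := card_le_six (G := G) (by omega)
        omega
      have h : 2 ^ p ≤ p ^ 12 := by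
        interval_cases p <;> first | (norm_num; done) | exact absurd hp (by norm_num)
      refine (le_of_two_pow_le hp.two_le h).trans ?_
      norm_num
      exact_mod_cast hK4
  · exact large_case _ G rfl hG p hp hge hdvd

end Cfsg.Agent.H88.ClassBound
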